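import Groth.Prelude.Def_AlgGrp
import Mathlib.AlgebraicGeometry.Morphisms.Flat

/-!
# Calculus of points for actions of group schemes

`one_lift`, `mul_lift`: the two laws on `T`-points; `shear a`: the automorphism `(g, x) ↦ (g, g · x)` of `G ⊗ X`, so
that the action morphism is the second projection up to an automorphism; base change stable properties of `snd`.
-/

set_option autoImplicit false
universe u
open CategoryTheory MonoidalCategory CartesianMonoidalCategory MonObj GrpObj AlgebraicGeometry Limits

namespace K395.Act

variable {S : Scheme.{u}}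

section

variable {G X : Over S} [GrpObj G] (a : AlgGrp.Action G X)

theorem mul_lift {T : Over S} (g h : T ⟶ G) (x : T ⟶ X) :
    lift (g * h) x ≫ a.act = lift g (lift h x ≫ a.act) ≫ a.act := by
  have h1 := congr(lift (lift g h) x ≫ $(a.mul_act))
  rw [Hom.mul_def]
  simpa using h1

theorem one_lift {T : Over S} (x : T ⟶ X) : lift 1 x ≫ a.act = x := by
  have h1 := congr(lift (toUnit T) x ≫ $(a.one_act))
  simpa [Hom.one_def] using h1

theorem inv_lift {T : Over S} (g : T ⟶ G) (x : T ⟶ X) :
    lift g⁻¹ (lift g x ≫ a.act) ≫ a.act = x := by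
  rw [← mul_lift, inv_mul_cancel, one_lift]

theorem lift_inv {T : Over S} (g : T ⟶ G) (x : T ⟶ X) :
    lift g (lift g⁻¹ x ≫ a.act) ≫ a.act = x := by
  rw [← mul_lift, mul_inv_cancel, one_lift]

theorem comp_act {T T' : Over S} (t : T' ⟶ T) (g : T ⟶ G) (x : T ⟶ X) :
    t ≫ lift g x ≫ a.act = lift (t ≫ g) (t ≫ x) ≫ a.act := by
  rw [comp_lift_assoc]

theorem act_inj {T : Over S} (g : T ⟶ G) {x y : T ⟶ X}
    (h : lift g x ≫ a.act = lift g y ≫ a.act) : x = y := by
  rw [← inv_lift a g x, h, inv_lift]

/-- The automorphism `(g, x) ↦ (g, g · x)` of `G ⊗ X`. -/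
noncomputable def shear : G ⊗ X ≅ G ⊗ X where
  hom := lift (fst G X) a.act
  inv := lift (fst G X) (lift (fst G X)⁻¹ (snd G X) ≫ a.act)
  hom_inv_id := by
    ext1
    · simp
    · have h1 := inv_lift a (fst G X) (snd G X)
      have h2 : lift (fst G X) (snd G X) ≫ a.act = a.act := by simp
      rw [h2] at h1
      rw [Category.assoc, lift_snd, comp_act, lift_snd, GrpObj.comp_inv, lift_fst, Category.id_comp, h1]
  inv_hom_id := by
    ext1
    · simp
    · rw [Category.assoc, lift_snd, lift_inv, Category.id_comp]

theorem shear_hom_fst : (shear a).hom ≫ fst G X = fst G X := by simp [shear]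

theorem shear_hom_snd : (shear a).hom ≫ snd G X = a.act := by simp [shear]

theorem isIso_shear_left : IsIso (shear a).hom.left :=
  inferInstanceAs (IsIso ((Over.forget S).map (shear a).hom))

end

/-- A property of schemes morphisms stable under base change passes from `G.hom` to `snd G X`. -/
theorem snd_mem (P : MorphismProperty Scheme.{u}) [P.IsStableUnderBaseChange] (G X : Over S)
    (h : P G.hom) : P (snd G X).left := by
  rw [Over.snd_left]
  exact P.pullback_snd _ _ h

theorem fst_mem (P : MorphismProperty Scheme.{u}) [P.IsStableUnderBaseChange] (G X : Over S)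
    (h : P X.hom) : P (fst G X).left := by
  rw [Over.fst_left]
  exact P.pullback_fst _ _ h

/-- A property of morphisms of schemes stable under base change passes from `G.hom` to the action morphism. -/
theorem act_mem (P : MorphismProperty Scheme.{u}) [P.IsStableUnderBaseChange] [P.RespectsIso]
    {G X : Over S} [GrpObj G] (a : AlgGrp.Action G X) (h : P G.hom) : P a.act.left := by
  rw [← shear_hom_snd a, Over.comp_left]
  have := isIso_shear_left a
  exact (P.cancel_left_of_respectsIso _ _).2 (snd_mem P G X h)

end K395.Act
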