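import Groth.Prelude.Def_AlgGrp

/-!
# Homomorphisms, kernels and normality on points

All statements hold in any cartesian monoidal category.
-/

set_option autoImplicit false
universe v u
open CategoryTheory MonoidalCategory CartesianMonoidalCategory MonObj GrpObj Limits

namespace K395.Pts

variable {C : Type u} [Category.{v} C] [CartesianMonoidalCategory C]

theorem mul_eq {G : C} [GrpObj G] : μ[G] = fst G G * snd G G := by
  rw [Hom.mul_def, lift_fst_snd, Category.id_comp]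

/-- A morphism of group objects which is multiplicative on points is a homomorphism. -/
theorem isMonHom_of_pts {G H : C} [GrpObj G] [GrpObj H] (f : G ⟶ H)
    (h : ∀ (T : C) (x y : T ⟶ G), (x * y) ≫ f = (x ≫ f) * (y ≫ f)) : IsMonHom f where
  one_hom := by
    have h1 := h _ (1 : 𝟙_ C ⟶ G) 1
    rw [_root_.mul_one] at h1
    have h2 : (1 : 𝟙_ C ⟶ G) ≫ f = 1 := by simpa using h1
    have e1 : (1 : 𝟙_ C ⟶ G) = η[G] := by
      rw [Hom.one_def, toUnit_unique (toUnit (𝟙_ C)) (𝟙 _), Category.id_comp]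
    have e2 : (1 : 𝟙_ C ⟶ H) = η[H] := by
      rw [Hom.one_def, toUnit_unique (toUnit (𝟙_ C)) (𝟙 _), Category.id_comp]
    rw [← e1, h2, e2]
  mul_hom := by
    rw [mul_eq, h, Hom.mul_def]
    congr 1
    ext1 <;> simp

theorem one_comp_of_mul {G H : C} [GrpObj G] [GrpObj H] (f : G ⟶ H) [IsMonHom f] {T : C} :
    (1 : T ⟶ G) ≫ f = 1 := MonObj.one_comp f

/-- `i` followed by `q` is trivial when `i` is the kernel of `q`. -/
theorem comp_eq_one {N G Q : C} [GrpObj Q] {i : N ⟶ G} {q : G ⟶ Q} (h : IsPullback i (toUnit N) q η[Q])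
    {T : C} (n : T ⟶ N) : (n ≫ i) ≫ q = 1 := by
  rw [Category.assoc, h.w, ← Category.assoc, toUnit_unique (n ≫ toUnit N) (toUnit T), ← Hom.one_def]

theorem exists_of_comp_eq_one {N G Q : C} [GrpObj Q] {i : N ⟶ G} {q : G ⟶ Q}
    (h : IsPullback i (toUnit N) q η[Q]) {T : C} (x : T ⟶ G) (hx : x ≫ q = 1) : ∃ n : T ⟶ N, n ≫ i = x :=
  ⟨h.lift x (toUnit T) (by rw [hx, Hom.one_def]), h.lift_fst _ _ _⟩

theorem mono_of_isKernel {N G Q : C} [GrpObj Q] {i : N ⟶ G} {q : G ⟶ Q}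
    (h : IsPullback i (toUnit N) q η[Q]) : Mono i :=
  ⟨fun _ _ hab => h.hom_ext hab (toUnit_unique _ _)⟩

/-- Two points with the same image differ by a point of the kernel (on the left). -/
theorem exists_of_comp_eq {N G Q : C} [GrpObj G] [GrpObj Q] {i : N ⟶ G} {q : G ⟶ Q} [IsMonHom q]
    (h : IsPullback i (toUnit N) q η[Q]) {T : C} (x y : T ⟶ G) (hxy : x ≫ q = y ≫ q) :
    ∃ n : T ⟶ N, x = (n ≫ i) * y := by
  obtain ⟨n, hn⟩ := exists_of_comp_eq_one h (x * y⁻¹) (by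
    rw [MonObj.mul_comp, GrpObj.inv_comp, hxy, mul_inv_cancel])
  exact ⟨n, by rw [hn, inv_mul_cancel_right]⟩

/-- Two points with the same image differ by a point of the kernel (on the right). -/
theorem exists_of_comp_eq' {N G Q : C} [GrpObj G] [GrpObj Q] {i : N ⟶ G} {q : G ⟶ Q} [IsMonHom q]
    (h : IsPullback i (toUnit N) q η[Q]) {T : C} (x y : T ⟶ G) (hxy : x ≫ q = y ≫ q) :
    ∃ n : T ⟶ N, x = y * (n ≫ i) := by
  obtain ⟨n, hn⟩ := exists_of_comp_eq_one h (y⁻¹ * x) (by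
    rw [MonObj.mul_comp, GrpObj.inv_comp, hxy, inv_mul_cancel])
  exact ⟨n, by rw [hn, mul_inv_cancel_left]⟩

/-- A pointwise criterion for being a kernel. -/
theorem isKernel_of_pts {N G Q : C} [GrpObj Q] {i : N ⟶ G} [Mono i] {q : G ⟶ Q}
    (h1 : ∀ (T : C) (n : T ⟶ N), (n ≫ i) ≫ q = 1)
    (h2 : ∀ (T : C) (x : T ⟶ G), x ≫ q = 1 → ∃ n : T ⟶ N, n ≫ i = x) :
    IsPullback i (toUnit N) q η[Q] := by
  have hw : i ≫ q = toUnit N ≫ η[Q] := by
    have := h1 N (𝟙 N)
    rwa [Category.id_comp, Hom.one_def] at this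
  have key : ∀ s : PullbackCone q η[Q], s.fst ≫ q = 1 := fun s => by
    rw [s.condition, Hom.one_def, toUnit_unique s.snd (toUnit _)]
  refine ⟨⟨hw⟩, ⟨PullbackCone.IsLimit.mk _ (fun s => (h2 _ s.fst (key s)).choose) ?_ ?_ ?_⟩⟩
  · intro s
    exact (h2 _ s.fst (key s)).choose_spec
  · intro s
    exact toUnit_unique _ _
  · intro s m hm _
    rw [← cancel_mono i, hm]
    exact (h2 _ s.fst (key s)).choose_spec.symm

end K395.Pts
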