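import Groth.Agent.AlgGrp.K395.CovKit
import Groth.Agent.AlgGrp.K395.Pts
import Groth.Agent.Sga3B.KerGrp
import Groth.Agent.Books.AntiAffine
import Groth.Agent.S3278

/-!
# Uniqueness of quotients; quotients of affine groups
-/

set_option autoImplicit false
universe u
open CategoryTheory MonoidalCategory CartesianMonoidalCategory MonObj GrpObj AlgebraicGeometry Limits

namespace K395.Quo

open Groth.Agent Groth.Agent.Sga3B Groth.Agent.Sga3.H739.Fpqc

section

variable {S : Scheme.{u}}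

/-- Two covers of `G` with the same kernel pair are isomorphic. -/
theorem exists_iso_of_cov {G Q Q' : Over S} (q : G ⟶ Q) (q' : G ⟶ Q') (hq : Cov q) (hq' : Cov q')
    (h : ∀ (T : Over S) (x y : T ⟶ G), x ≫ q = y ≫ q ↔ x ≫ q' = y ≫ q') :
    ∃ e : Q ≅ Q', q ≫ e.hom = q' := by
  obtain ⟨f, hf⟩ := hq.exists_desc q' fun x y hxy => (h _ x y).1 hxy
  obtain ⟨g, hg⟩ := hq'.exists_desc q fun x y hxy => (h _ x y).2 hxy
  refine ⟨⟨f, g, hq.cancel ?_, hq'.cancel ?_⟩, hf⟩
  · rw [← Category.assoc, hf, hg, Category.comp_id]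
  · rw [← Category.assoc, hg, hf, Category.comp_id]

/-- Two quotient homomorphisms with the same kernel are isomorphic. -/
theorem exists_iso_of_kernel {N G Q Q' : Over S} [GrpObj G] [GrpObj Q] [GrpObj Q'] (i : N ⟶ G)
    (q : G ⟶ Q) (q' : G ⟶ Q') [IsMonHom q] [IsMonHom q'] (hq : Cov q) (hq' : Cov q')
    (hk : AlgGrp.IsKernel i q) (hk' : AlgGrp.IsKernel i q') :
    ∃ e : Q ≅ Q', q ≫ e.hom = q' := by
  refine exists_iso_of_cov q q' hq hq' fun T x y => ?_
  constructor
  · intro h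
    obtain ⟨n, rfl⟩ := Pts.exists_of_comp_eq hk x y h
    rw [MonObj.mul_comp, Pts.comp_eq_one hk', _root_.one_mul]
  · intro h
    obtain ⟨n, rfl⟩ := Pts.exists_of_comp_eq hk' x y h
    rw [MonObj.mul_comp, Pts.comp_eq_one hk, _root_.one_mul]

/-- A homomorphism out of `Q` whose composite with a cover is a homomorphism is a homomorphism. -/
theorem isMonHom_of_comp_cov {G Q H : Over S} [GrpObj G] [GrpObj Q] [GrpObj H] (q : G ⟶ Q) [IsMonHom q]
    (hq : Cov q) (f : Q ⟶ H) (h : IsMonHom (q ≫ f)) : IsMonHom f := by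
  refine Pts.isMonHom_of_pts f fun T x y => ?_
  obtain ⟨T₁, t₁, x', ht₁, hx'⟩ := hq.exists_local x
  obtain ⟨T₂, t₂, y', ht₂, hy'⟩ := hq.exists_local y
  obtain ⟨T', s₁, s₂, hs, hc, -⟩ := CovKit.exists_common ht₁ ht₂
  refine hc.cancel ?_
  have e1 : (s₁ ≫ t₁) ≫ x = (s₁ ≫ x') ≫ q := by rw [Category.assoc, ← hx', Category.assoc]
  have e2 : (s₁ ≫ t₁) ≫ y = (s₂ ≫ y') ≫ q := by rw [hs, Category.assoc, ← hy', Category.assoc]
  rw [← Category.assoc, MonObj.comp_mul, e1, e2, ← MonObj.mul_comp, Category.assoc, MonObj.mul_comp,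
    MonObj.comp_mul, ← Category.assoc (s₁ ≫ t₁) x, e1, ← Category.assoc (s₁ ≫ t₁) y, e2, Category.assoc (s₁ ≫ x'),
    Category.assoc (s₂ ≫ y')]

end

variable {k : Type u} [Field k]

/-- The kernel of a homomorphism is normal. -/
theorem isNormalHom_ker {S : Scheme.{u}} {N G Q : Over S} [GrpObj N] [GrpObj G] [GrpObj Q] (i : N ⟶ G)
    (q : G ⟶ Q) [IsMonHom q] (hk : AlgGrp.IsKernel i q) : AlgGrp.IsNormalHom i := by
  intro T g n
  obtain ⟨n', hn'⟩ := Pts.exists_of_comp_eq_one hk (g * (n ≫ i) * g⁻¹) (by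
    rw [MonObj.mul_comp, MonObj.mul_comp, Pts.comp_eq_one hk, _root_.mul_one, GrpObj.inv_comp, mul_inv_cancel])
  exact ⟨n', hn'.symm⟩

/-- The kernel of a homomorphism to a separated group is closed. -/
theorem isClosedImmersion_ker {S : Scheme.{u}} {N G Q : Over S} [GrpObj G] [GrpObj Q] (i : N ⟶ G)
    (q : G ⟶ Q) (hk : AlgGrp.IsKernel i q) [IsSeparated Q.hom] : IsClosedImmersion i.left := by
  have h1 : IsClosedImmersion (KerGrp.kerι q).left := inferInstance
  let e : N ≅ KerGrp.kerObj q := IsLimit.conePointUniqueUpToIso hk.isLimit (KerGrp.isPullback_ker q).isLimit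
  have he : e.hom ≫ KerGrp.kerι q = i :=
    IsLimit.conePointUniqueUpToIso_hom_comp hk.isLimit (KerGrp.isPullback_ker q).isLimit WalkingCospan.left
  have hI : IsIso e.hom.left := inferInstanceAs (IsIso ((Over.forget _).mapIso e).hom)
  rw [← he, Over.comp_left]
  infer_instance

/-- The target of a quotient homomorphism from an affine group of finite type is affine. -/
theorem isAffine_of_quotient {G Q : Over (Spec (CommRingCat.of k))} [GrpObj G] [GrpObj Q]
    [LocallyOfFiniteType G.hom] (q : G ⟶ Q) [IsMonHom q] (hq : Cov q) (hG : IsAffine G.left) :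
    IsAffine Q.left := by
  have hs : IsSeparated Q.hom := Books.AntiAffine.isSeparated_hom Q
  obtain ⟨_, hm⟩ := KerGrp.exists_grpObj q
  obtain ⟨Q', _, q', h1, h2, h3, h4, h5, h6⟩ := S3278.result k G (KerGrp.kerObj q) (KerGrp.kerι q)
    (isNormalHom_ker _ q (KerGrp.isPullback_ker q))
  have : QuasiCompact G.hom := inferInstance
  obtain ⟨e, -⟩ := exists_iso_of_kernel (KerGrp.kerι q) q q' hq (CovKit.cov_of q') (KerGrp.isPullback_ker q) h6
  have hI : IsIso e.hom.left := inferInstanceAs (IsIso ((Over.forget _).mapIso e).hom)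
  exact IsAffine.of_isIso e.hom.left

end K395.Quo
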