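import Groth.Agent.Sga3.H739.Fpqc
import Groth.Prelude.Def_AlgGrp

/-!
# Flat surjective homomorphisms between group schemes of finite type over a field

`cov_of`: they are covers (`Cov`: flat, surjective, quasi-compact).  `Cov.pull2`: two covers of `T` have a common
refinement.  `Cov.isMonHom_desc` etc.
-/

set_option autoImplicit false
universe u
open CategoryTheory MonoidalCategory CartesianMonoidalCategory MonObj GrpObj AlgebraicGeometry Limits

namespace K395.CovKit

open Groth.Agent.Sga3.H739.Fpqc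

variable {k : Type u} [Field k]

/-- A flat surjective morphism from a quasi-compact `k`-scheme to a `k`-scheme of finite type is a cover. -/
theorem cov_of {G Q : Over (Spec (CommRingCat.of k))} [QuasiCompact G.hom] [LocallyOfFiniteType Q.hom]
    (q : G ⟶ Q) [Flat q.left] [Surjective q.left] : Cov q := by
  have hQs : QuasiSeparated Q.hom := by
    have : IsLocallyNoetherian Q.left := LocallyOfFiniteType.isLocallyNoetherian Q.hom
    infer_instance
  have hq : QuasiCompact q.left := by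
    have : QuasiCompact (q.left ≫ Q.hom) := by
      rw [Over.w]
      infer_instance
    exact QuasiCompact.of_comp q.left Q.hom
  exact ⟨inferInstance, inferInstance, hq⟩

variable {S : Scheme.{u}}

/-- Two covers of `T` have a common refinement. -/
theorem exists_common {T T₁ T₂ : Over S} {t₁ : T₁ ⟶ T} {t₂ : T₂ ⟶ T} (h₁ : Cov t₁) (h₂ : Cov t₂) :
    ∃ (T' : Over S) (s₁ : T' ⟶ T₁) (s₂ : T' ⟶ T₂), s₁ ≫ t₁ = s₂ ≫ t₂ ∧ Cov (s₁ ≫ t₁) ∧ Cov s₁ := by
  obtain ⟨T', s, r, hs, hr⟩ := h₂.exists_local t₁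
  exact ⟨T', s, r, hr.symm, hs.comp h₁, hs⟩

/-- Points of the derived series lift locally along a cover. -/
theorem exists_lift_derivedSeries {G Q : Over S} [GrpObj G] [GrpObj Q] (q : G ⟶ Q) [IsMonHom q] (hq : Cov q)
    (j : ℕ) : ∀ (T : Over S) (x : T ⟶ Q), x ∈ derivedSeries (T ⟶ Q) j →
      ∃ (T' : Over S) (t : T' ⟶ T) (y : T' ⟶ G), Cov t ∧ y ∈ derivedSeries (T' ⟶ G) j ∧ y ≫ q = t ≫ x := by
  induction j with
  | zero =>
    intro T x _
    obtain ⟨T', t, y, ht, hy⟩ := hq.exists_local x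
    exact ⟨T', t, y, ht, by simp, hy⟩
  | succ j ih =>
    have hp : ∀ {T T' : Over S} (t : T' ⟶ T) (y : T ⟶ G) (j : ℕ), y ∈ derivedSeries (T ⟶ G) j →
        t ≫ y ∈ derivedSeries (T' ⟶ G) j := by
      intro T T' t y j hy
      exact map_derivedSeries_le_derivedSeries
        (MonoidHom.mk' (fun x : T ⟶ G => t ≫ x) (fun a b => MonObj.comp_mul t a b)) j ⟨y, hy, rfl⟩
    intro T x hx
    rw [derivedSeries_succ, Subgroup.commutator_def] at hx
    induction hx using Subgroup.closure_induction with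
    | mem x hx =>
      obtain ⟨a, ha, b, hb, rfl⟩ := hx
      obtain ⟨T₁, t₁, a', ht₁, ha', ha''⟩ := ih T a ha
      obtain ⟨T₂, t₂, b', ht₂, hb', hb''⟩ := ih T b hb
      obtain ⟨T', s₁, s₂, hs, hc, -⟩ := exists_common ht₁ ht₂
      refine ⟨T', s₁ ≫ t₁, (s₁ ≫ a') * (s₂ ≫ b') * (s₁ ≫ a')⁻¹ * (s₂ ≫ b')⁻¹, hc, ?_, ?_⟩
      · rw [derivedSeries_succ, ← commutatorElement_def]
        exact Subgroup.commutator_mem_commutator (hp s₁ a' j ha') (hp s₂ b' j hb')
      · rw [commutatorElement_def]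
        simp only [MonObj.mul_comp, GrpObj.inv_comp, MonObj.comp_mul, GrpObj.comp_inv, Category.assoc, ha'', hb'']
        simp only [reassoc_of% hs]
    | one =>
      refine ⟨T, 𝟙 T, 1, Cov.of_isIso _, Subgroup.one_mem _, ?_⟩
      rw [MonObj.one_comp, Category.id_comp]
    | mul x y _ _ hx hy =>
      obtain ⟨T₁, t₁, a', ht₁, ha', ha''⟩ := hx
      obtain ⟨T₂, t₂, b', ht₂, hb', hb''⟩ := hy
      obtain ⟨T', s₁, s₂, hs, hc, -⟩ := exists_common ht₁ ht₂
      refine ⟨T', s₁ ≫ t₁, (s₁ ≫ a') * (s₂ ≫ b'), hc, mul_mem (hp _ _ _ ha') (hp _ _ _ hb'), ?_⟩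
      simp only [MonObj.mul_comp, MonObj.comp_mul, Category.assoc, ha'', hb'']
      simp only [reassoc_of% hs]
    | inv x _ hx =>
      obtain ⟨T₁, t₁, a', ht₁, ha', ha''⟩ := hx
      refine ⟨T₁, t₁, a'⁻¹, ht₁, inv_mem ha', ?_⟩
      rw [GrpObj.inv_comp, ha'', GrpObj.comp_inv]

/-- Equality of two points may be tested after a cover: a homomorphism trivial after a cover. -/
theorem eq_one_of_cov {T T' : Over S} {G : Over S} [GrpObj G] {t : T' ⟶ T} (ht : Cov t) (x : T ⟶ G)
    (h : t ≫ x = 1) : x = 1 := ht.cancel (by rw [h, MonObj.comp_one])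

end K395.CovKit
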