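import Groth.Agent.AlgGrp.K395.PicRat
import Groth.Agent.AlgGrp.K395.Act
import Groth.Agent.Books.AlgPts

/-!
# Invertible modules are invariant under the translations of a rational group

`translate_eq`: `G` an irreducible group over an algebraically closed field with a nonempty open subscheme isomorphic
to an open subscheme of an affine space, acting on a normal `X`; every class in `Pic X` is fixed by the translations
by the rational points of `G`.
-/

set_option autoImplicit false
universe u
open CategoryTheory Limits MonoidalCategory CartesianMonoidalCategory MonObj AlgebraicGeometry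
open Groth.Agent.Grpsch.PicGrp Groth.Agent.Books.AlgPts

namespace K395.Transl

section

variable {S : Scheme.{u}} {G X : Over S} [GrpObj G]

/-- Translation by a rational point. -/
noncomputable def tr (a : AlgGrp.Action G X) (g : 𝟙_ (Over S) ⟶ G) : X ⟶ X := lift (toUnit X ≫ g) (𝟙 X) ≫ a.act

theorem comp_tr (a : AlgGrp.Action G X) (g : 𝟙_ (Over S) ⟶ G) {T : Over S} (x : T ⟶ X) :
    x ≫ tr a g = lift (toUnit T ≫ g) x ≫ a.act := by
  rw [tr, ← Category.assoc, comp_lift, Category.comp_id, ← Category.assoc, comp_toUnit]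

theorem tr_mul (a : AlgGrp.Action G X) (g h : 𝟙_ (Over S) ⟶ G) : tr a (g * h) = tr a h ≫ tr a g := by
  rw [comp_tr, tr, tr, MonObj.comp_mul, Act.mul_lift]

theorem tr_one (a : AlgGrp.Action G X) : tr a 1 = 𝟙 X := by
  rw [tr, MonObj.comp_one, Act.one_lift]

/-- Translation as an automorphism. -/
noncomputable def trIso (a : AlgGrp.Action G X) (g : 𝟙_ (Over S) ⟶ G) : X ≅ X where
  hom := tr a g
  inv := tr a g⁻¹
  hom_inv_id := by rw [← tr_mul, inv_mul_cancel, tr_one]
  inv_hom_id := by rw [← tr_mul, mul_inv_cancel, tr_one]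

instance isIso_tr (a : AlgGrp.Action G X) (g : 𝟙_ (Over S) ⟶ G) : IsIso (tr a g) :=
  inferInstanceAs (IsIso (trIso a g).hom)

instance isIso_tr_left (a : AlgGrp.Action G X) (g : 𝟙_ (Over S) ⟶ G) : IsIso (tr a g).left :=
  inferInstanceAs (IsIso ((Over.forget S).map (tr a g)))

end

theorem pull_injective_of_isIso {X Y : Scheme.{u}} (f : X ⟶ Y) [IsIso f] : Function.Injective (pull f) := by
  intro c d h
  have h2 := congrArg (pull (inv f)) h
  rwa [← pull_comp, ← pull_comp, IsIso.inv_hom_id, pull_id, pull_id] at h2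

variable {k : Type u} [Field k]

/-- Translations by points of an open subscheme of an affine space mapping to `G` have the same effect on `Pic X`. -/
theorem translate_eq_of_chart {n : Type u} [Finite n] {G X W : Over (Spec (CommRingCat.of k))} [GrpObj G]
    [LocallyOfFiniteType X.hom] (hX : Pi1.IsNormalScheme X.left) (a : AlgGrp.Action G X) (w : W ⟶ G)
    (j : W.left ⟶ 𝔸(n; Spec (CommRingCat.of k))) [IsOpenImmersion j]
    (hj : j ≫ (𝔸(n; Spec (CommRingCat.of k)) ↘ Spec (CommRingCat.of k)) = W.hom)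
    (h₁ h₂ : 𝟙_ (Over (Spec (CommRingCat.of k))) ⟶ W) (c : Pic X.left) :
    pull (tr a (h₁ ≫ w)).left c = pull (tr a (h₂ ≫ w)).left c := by
  have key : ∀ h : 𝟙_ (Over (Spec (CommRingCat.of k))) ⟶ W, pull (tr a (h ≫ w)).left c =
      pull (lift (toUnit X ≫ h) (𝟙 X)).left (pull (w ▷ X ≫ a.act).left c) := by
    intro h
    rw [← pull_comp, ← Over.comp_left, ← Category.assoc, lift_whiskerRight, Category.assoc, tr]
  rw [key, key]
  generalize pull (w ▷ X ≫ a.act).left c = c'
  have e := PicRat.eq_pull_snd W X j hj hX c' h₂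
  calc pull (lift (toUnit X ≫ h₁) (𝟙 X)).left c'
      = pull (lift (toUnit X ≫ h₁) (𝟙 X)).left (pull (snd W X).left
          (pull (lift (toUnit X ≫ h₂) (𝟙 X)).left c')) := by rw [e]
    _ = pull (lift (toUnit X ≫ h₂) (𝟙 X)).left c' := by
      rw [← pull_comp, ← Over.comp_left, lift_snd, Over.id_left, pull_id]

/-- The classes of invertible modules on a normal `X` are invariant under translations, for `G` rational. -/
theorem translate_eq {n : Type u} [Finite n] [IsAlgClosed k] {G X W : Over (Spec (CommRingCat.of k))} [GrpObj G]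
    [LocallyOfFiniteType X.hom] [LocallyOfFiniteType G.hom] [PreirreducibleSpace G.left]
    (hX : Pi1.IsNormalScheme X.left) (a : AlgGrp.Action G X) (w : W ⟶ G) [IsOpenImmersion w.left]
    [Nonempty W.left]
    (j : W.left ⟶ 𝔸(n; Spec (CommRingCat.of k))) [IsOpenImmersion j]
    (hj : j ≫ (𝔸(n; Spec (CommRingCat.of k)) ↘ Spec (CommRingCat.of k)) = W.hom)
    (g : 𝟙_ (Over (Spec (CommRingCat.of k))) ⟶ G) (c : Pic X.left) :
    pull (tr a g).left c = c := by
  have hW : LocallyOfFiniteType W.hom := by rw [← Over.w w]; infer_instance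
  -- left translation by `g` on `G`
  let τ : G ⟶ G := (toUnit G ≫ g) * 𝟙 G
  let σ : G ⟶ G := (toUnit G ≫ g⁻¹) * 𝟙 G
  have h1 : σ ≫ τ = 𝟙 G := by
    simp only [τ, σ, MonObj.comp_mul, comp_toUnit_assoc, Category.comp_id, GrpObj.comp_inv]
    rw [← _root_.mul_assoc, mul_inv_cancel, _root_.one_mul]
  have h2 : τ ≫ σ = 𝟙 G := by
    simp only [τ, σ, MonObj.comp_mul, comp_toUnit_assoc, Category.comp_id, GrpObj.comp_inv]
    rw [← _root_.mul_assoc, inv_mul_cancel, _root_.one_mul]
  have hτ : IsIso τ := ⟨σ, h2, h1⟩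
  have hτ' : IsIso τ.left := inferInstanceAs (IsIso ((Over.forget _).map τ))
  obtain ⟨h₁', hm⟩ := exists_pt_mem (X := G) (U := τ.left ⁻¹' Set.range w.left ∩ Set.range w.left) (by
    have hU : (Set.range w.left).Nonempty := Set.range_nonempty _
    have hV : (τ.left ⁻¹' Set.range w.left).Nonempty := hU.preimage τ.left.surjective
    exact nonempty_preirreducible_inter (w.left.isOpenEmbedding.isOpen_range.preimage τ.left.continuous)
      w.left.isOpenEmbedding.isOpen_range hV hU)
    ((w.left.isOpenEmbedding.isOpen_range.preimage τ.left.continuous).inter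
      w.left.isOpenEmbedding.isOpen_range).isLocallyClosed
  obtain ⟨h₁, hh₁⟩ := exists_comp_eq_of_pt_mem_range w h₁' hm.2
  obtain ⟨h₂, hh₂⟩ := exists_comp_eq_of_pt_mem_range w (h₁' ≫ τ) (by rw [pt_comp]; exact hm.1)
  have h3 : h₁' ≫ τ = g * h₁' := by
    simp only [τ, MonObj.comp_mul, comp_toUnit_assoc, Category.comp_id]
    rw [toUnit_unique (toUnit (𝟙_ (Over (Spec (CommRingCat.of k))))) (𝟙 _), Category.id_comp]
  have h4 := translate_eq_of_chart hX a w j hj h₁ h₂ c
  rw [hh₁, hh₂, h3, tr_mul, Over.comp_left, pull_comp] at h4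
  exact (pull_injective_of_isIso _ h4).symm

end K395.Transl
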