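import Groth.Agent.AlgGrp.K395.NormExt
import Groth.Agent.AlgGrp.K395.Transl
import Groth.Agent.AlgGrp.K413.Saturate
import Groth.Agent.Sga4h.H915.SmoothPart
import Groth.Agent.S1561
import Groth.Agent.S0115
import Groth.Agent.S2344

/-!
# The smooth locus of a normal scheme with a group action

* `big_smoothLocus`: it contains all points of codimension at most one;
* `sat_smoothLocus_subset`: it is stable under the action of a smooth group;
* `restr`: the restriction of an action to a stable open.
-/

set_option autoImplicit false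
universe u
open CategoryTheory CategoryTheory.Limits AlgebraicGeometry TopologicalSpace MonoidalCategory CartesianMonoidalCategory
  MonObj GrpObj
open K413.Saturate

namespace K395.SmLoc

variable {k : Type u} [Field k]

theorem big_smoothLocus [PerfectField k] {X : Scheme.{u}} (p : X ⟶ Spec (CommRingCat.of k)) [IsReduced X]
    [LocallyOfFiniteType p] (hX : Pi1.IsNormalScheme X) : NormExt.Big p.smoothLocus := by
  intro z hz
  have : IsLocallyNoetherian X := LocallyOfFiniteType.isLocallyNoetherian p
  letI : X.Over (Spec (CommRingCat.of k)) := ⟨p⟩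
  have : LocallyOfFinitePresentation (X ↘ Spec (CommRingCat.of k)) := inferInstanceAs (LocallyOfFinitePresentation p)
  refine ((Groth.Agent.S1561.result k X).1 z).2 ?_
  have := (hX z).1
  have := (hX z).2
  refine Groth.Agent.S2344.isRegular_of_normal _ ?_
  rw [ringKrullDim_stalk_eq_coheight]
  exact_mod_cast hz

section

variable {S : Scheme.{u}} {G X : Over S} [GrpObj G] (a : AlgGrp.Action G X)

/-- A stable open as an object over the base. -/
noncomputable abbrev sub (U : X.left.Opens) : Over S := Over.mk (U.ι ≫ X.hom)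

/-- The inclusion. -/
noncomputable def inc (U : X.left.Opens) : sub U ⟶ X := Over.homMk U.ι

@[simp] theorem inc_left (U : X.left.Opens) : (inc U).left = U.ι := rfl

instance (U : X.left.Opens) : IsOpenImmersion (inc U).left := inferInstanceAs (IsOpenImmersion U.ι)

instance (U : X.left.Opens) : Mono (inc U) :=
  (Over.forget S).mono_of_mono_map (inferInstanceAs (Mono U.ι))

theorem range_sub {U : X.left.Opens} (h : sat a (U : Set X.left) ⊆ U) :
    Set.range ((G ◁ inc U) ≫ a.act).left ⊆ Set.range U.ι := by
  rintro _ ⟨p, rfl⟩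
  rw [Scheme.Opens.range_ι]
  refine h ⟨(G ◁ inc U).left p, ?_, ?_⟩
  · rw [Set.mem_preimage, ← comp_left_apply, whiskerLeft_snd, comp_left_apply]
    exact ((snd G (sub U)).left p).2
  · rw [← comp_left_apply]

/-- The action morphism on a stable open. -/
noncomputable def actHom {U : X.left.Opens} (h : sat a (U : Set X.left) ⊆ U) : G ⊗ sub U ⟶ sub U :=
  Over.homMk (IsOpenImmersion.lift U.ι ((G ◁ inc U) ≫ a.act).left (range_sub a h)) (by
    change _ ≫ U.ι ≫ X.hom = _
    rw [← Category.assoc, IsOpenImmersion.lift_fac, Over.w])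

theorem actHom_inc {U : X.left.Opens} (h : sat a (U : Set X.left) ⊆ U) :
    actHom a h ≫ inc U = (G ◁ inc U) ≫ a.act := by
  ext1
  exact IsOpenImmersion.lift_fac U.ι _ _

/-- The restriction of an action to a stable open. -/
noncomputable def restr {U : X.left.Opens} (h : sat a (U : Set X.left) ⊆ U) : AlgGrp.Action G (sub U) where
  act := actHom a h
  one_act := by
    rw [← cancel_mono (inc U), Category.assoc, actHom_inc, ← whisker_exchange_assoc, a.one_act]
    simp
  mul_act := by
    rw [← cancel_mono (inc U), Category.assoc, actHom_inc, ← whisker_exchange_assoc, a.mul_act]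
    simp only [Category.assoc]
    rw [actHom_inc, ← whiskerLeft_comp_assoc, actHom_inc, whiskerLeft_comp_assoc]
    simp

theorem restr_act_inc {U : X.left.Opens} (h : sat a (U : Set X.left) ⊆ U) :
    (restr a h).act ≫ inc U = (G ◁ inc U) ≫ a.act := actHom_inc a h

theorem tr_restr_inc {U : X.left.Opens} (h : sat a (U : Set X.left) ⊆ U) (g : 𝟙_ (Over S) ⟶ G) :
    Transl.tr (restr a h) g ≫ inc U = inc U ≫ Transl.tr a g := by
  rw [Transl.tr, Category.assoc, restr_act_inc, Transl.comp_tr, lift_whiskerLeft_assoc, Category.id_comp]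

end

/-- The smooth locus is stable under smooth groups. -/
theorem sat_smoothLocus_subset {G X : Over (Spec (CommRingCat.of k))} [GrpObj G] [Smooth G.hom]
    [LocallyOfFiniteType X.hom] (a : AlgGrp.Action G X) :
    sat a (X.hom.smoothLocus : Set X.left) ⊆ X.hom.smoothLocus := by
  set V := X.hom.smoothLocus with hV
  have hG2 : UniversallyOpen G.hom := inferInstance
  let V' : X.left.Opens := ⟨sat a V, isOpen_sat a hG2 V.2⟩
  change V' ≤ V
  let W : (G ⊗ X).left.Opens := (snd G X).left ⁻¹ᵁ V
  have hq' : ∀ x : W, (W.ι ≫ a.act.left) x ∈ V' := fun x => ⟨W.ι x, x.2, rfl⟩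
  let q' : W.toScheme ⟶ V' := IsOpenImmersion.lift V'.ι (W.ι ≫ a.act.left) (by
    rintro _ ⟨x, rfl⟩
    rw [Scheme.Opens.range_ι]
    exact hq' x)
  have hq'ι : q' ≫ V'.ι = W.ι ≫ a.act.left := IsOpenImmersion.lift_fac _ _ _
  have hfl : Smooth a.act.left := Act.act_mem @Smooth a (inferInstanceAs (Smooth G.hom))
  have h1 : Smooth (q' ≫ V'.ι) := by rw [hq'ι]; infer_instance
  have h1' : Smooth q' := by
    have hp : IsPullback q' (𝟙 W.toScheme) V'.ι (W.ι ≫ a.act.left) :=
      IsOpenImmersion.isPullback_lift_id _ _ _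
    exact MorphismProperty.of_isPullback (P := @Smooth) hp.flip inferInstance
  have h3 : Surjective q' := by
    constructor
    rintro ⟨y, p, hp1, hp2⟩
    refine ⟨⟨p, hp1⟩, ?_⟩
    apply V'.ι.isOpenEmbedding.injective
    rw [← Scheme.Hom.comp_apply, hq'ι]
    exact hp2
  have h4 : Smooth (q' ≫ V'.ι ≫ X.hom) := by
    have e : q' ≫ V'.ι ≫ X.hom = ((snd G X).left ∣_ V) ≫ V.ι ≫ X.hom := by
      rw [← Category.assoc, hq'ι, Category.assoc, Over.w, ← Category.assoc, morphismRestrict_ι, Category.assoc,
        Over.w]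
    have h5 : Smooth (snd G X).left := Act.snd_mem @Smooth G X (inferInstanceAs (Smooth G.hom))
    have h6 : Smooth (V.ι ≫ X.hom) := Groth.Agent.Sga4h.H915.SmoothPart.smooth_smoothLocus X.hom
    rw [e]
    infer_instance
  have h5 : Smooth (V'.ι ≫ X.hom) := Groth.Agent.S0115.result q' (V'.ι ≫ X.hom)
  rw [← Scheme.Hom.smoothLocus_eq_top_iff, ← Scheme.Hom.preimage_smoothLocus_eq] at h5
  intro x hx
  have h6 : (⟨x, hx⟩ : V') ∈ (V'.ι ⁻¹ᵁ X.hom.smoothLocus) := by rw [h5]; trivial
  exact h6

end K395.SmLoc
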