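import Groth.Agent.AlgGrp.K395.BigAmple

/-!
# Sections over a big open: affine non-vanishing loci

`X₀ ≤ X` a big open of a normal separated noetherian integral scheme, `L` a module on `X₀` with sections `s i` whose
non-vanishing loci are the traces of the members `V i` of an affine open cover of `X`. For a global section `w` of `L`
let `W w` be the non-vanishing locus of `w` as a section of the direct image of `L`.

* `preimage_W`: `W w ∩ X₀` is the non-vanishing locus of `w`;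
* `isAffineOpen_W`: `W w` is affine if `w` is a linear combination of the `s i`;
* `exists_mem_W`: if `s i` is a linear combination of sections `w m`, every point of `V i` lies in some `W (w m)`.
-/

set_option autoImplicit false
universe u
open CategoryTheory CategoryTheory.Limits AlgebraicGeometry TopologicalSpace

namespace K395.BigPush

open Groth.Agent.Fdesc.LocGen Groth.Agent.Ega1.AmpFam NormExt BigAmple

variable {X : Scheme.{u}} [IsIntegral X] [IsLocallyNoetherian X] {X₀ : X.Opens} {L : X₀.toScheme.Modules}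

/-- A generator on the big open is a generator of the direct image. -/
theorem isGen_toPush (hX : Pi1.IsNormalScheme X) (h₀ : Big X₀) {U : X.Opens} {m : Γ(L, X₀.ι ⁻¹ᵁ U)} (h : IsGen m) :
    IsGen (toPush X₀.ι m) := by
  intro V hV
  have hb : Function.Bijective (X₀.ι.app V) := ⟨app_injective h₀ V, app_surjective hX h₀ V⟩
  exact (toPush (L := L) X₀.ι (U := V)).bijective.comp ((h _ (X₀.ι.preimage_mono hV)).comp hb)

/-- A global section as a section of the direct image. -/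
noncomputable def psh (w : Γ(L, ⊤)) : Γ((Scheme.Modules.pushforward X₀.ι).obj L, ⊤) := toPush X₀.ι (U := ⊤) w

/-- The non-vanishing locus in `X`. -/
noncomputable def W (w : Γ(L, ⊤)) : X.Opens := CohB1.genLocus _ (homOf (psh w))

theorem res_psh (w : Γ(L, ⊤)) (U : X.Opens) :
    res _ (le_top : U ≤ ⊤) (psh w) = toPush X₀.ι (res L (le_top : X₀.ι ⁻¹ᵁ U ≤ ⊤) w) := rfl

theorem sec_psh (w : Γ(L, ⊤)) (U : X.Opens) :
    sec (homOf (psh w)) U = toPush X₀.ι (res L (le_top : X₀.ι ⁻¹ᵁ U ≤ ⊤) w) := by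
  rw [sec_homOf]
  rfl

variable {ι : Type*} (V : ι → X.Opens) (s : ι → Γ(L, ⊤))

/-- The hypotheses. -/
structure Cov : Prop where
  normal : Pi1.IsNormalScheme X
  big : Big X₀
  affine : ∀ i, IsAffineOpen (V i)
  nonempty : ∀ i, (V i : Set X).Nonempty
  cover : ⨆ i, V i = ⊤
  locus : ∀ i, CohB1.genLocus _ (homOf (s i)) = X₀.ι ⁻¹ᵁ V i

variable {V s}

theorem Cov.isGen (h : Cov V s) (i : ι) : IsGen (res L (le_top : X₀.ι ⁻¹ᵁ V i ≤ ⊤) (s i)) := by
  have h1 := (le_genLocus_iff (homOf (s i)) _).1 (h.locus i).ge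
  rwa [sec_homOf] at h1

theorem Cov.isGen_push (h : Cov V s) (i : ι) : IsGen (res _ (le_top : V i ≤ ⊤) (psh (s i))) :=
  isGen_toPush h.normal h.big (h.isGen i)

/-- The coordinate of `w` on `V i`. -/
theorem Cov.exists_coord (h : Cov V s) (w : Γ(L, ⊤)) (i : ι) :
    ∃ a : Γ(X, V i), res _ (le_top : V i ≤ ⊤) (psh w) = a • res _ (le_top : V i ≤ ⊤) (psh (s i)) ∧
      W w ⊓ V i = X.basicOpen a ∧ CohB1.genLocus _ (homOf w) ⊓ X₀.ι ⁻¹ᵁ V i = X₀.ι ⁻¹ᵁ X.basicOpen a := by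
  obtain ⟨a, ha⟩ := (h.isGen_push i).exists_eq (res _ (le_top : V i ≤ ⊤) (psh w))
  refine ⟨a, ha, ?_, ?_⟩
  · refine genLocus_inf_eq (homOf (psh w)) (h.isGen_push i) ?_
    rw [sec_homOf]
    exact ha
  · rw [Scheme.preimage_basicOpen]
    refine genLocus_inf_eq (homOf w) (h.isGen i) ?_
    rw [sec_homOf]
    exact ha

theorem Cov.preimage_W (h : Cov V s) (w : Γ(L, ⊤)) : X₀.ι ⁻¹ᵁ W w = CohB1.genLocus _ (homOf w) := by
  have key : ∀ i, X₀.ι ⁻¹ᵁ W w ⊓ X₀.ι ⁻¹ᵁ V i = CohB1.genLocus _ (homOf w) ⊓ X₀.ι ⁻¹ᵁ V i := by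
    intro i
    obtain ⟨a, -, h1, h2⟩ := h.exists_coord w i
    rw [h2, ← h1]
    rfl
  ext y
  obtain ⟨i, hi⟩ := Opens.mem_iSup.1 (h.cover.ge (show X₀.ι y ∈ (⊤ : X.Opens) from trivial))
  have h3 : y ∈ X₀.ι ⁻¹ᵁ W w ⊓ X₀.ι ⁻¹ᵁ V i ↔ y ∈ CohB1.genLocus _ (homOf w) ⊓ X₀.ι ⁻¹ᵁ V i := by rw [key i]
  exact ⟨fun hy => (h3.1 ⟨hy, hi⟩).1, fun hy => (h3.2 ⟨hy, hi⟩).1⟩

theorem Cov.isAffineOpen_inf (h : Cov V s) (w : Γ(L, ⊤)) (i : ι) : IsAffineOpen (W w ⊓ V i) := by
  obtain ⟨a, -, h1, -⟩ := h.exists_coord w i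
  rw [h1]
  exact (h.affine i).basicOpen a

theorem Cov.le_W (h : Cov V s) (i : ι) : V i ≤ W (s i) := by
  rw [W, le_genLocus_iff, sec_homOf]
  exact h.isGen_push i

theorem Cov.genericPoint_mem (h : Cov V s) (i : ι) : genericPoint X ∈ V i := by
  obtain ⟨x, hx⟩ := h.nonempty i
  exact (genericPoint_specializes x).mem_open (V i).2 hx

theorem Cov.W_eq [X.IsSeparated] (h : Cov V s) (i : ι) : W (s i) = V i := by
  refine le_antisymm (fun x hx => ?_) (h.le_W i)
  obtain ⟨j, hj⟩ := Opens.mem_iSup.1 (h.cover.ge (show x ∈ (⊤ : X.Opens) from trivial))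
  have h1 : W (s i) ⊓ V j = V i ⊓ V j := by
    refine eq_of_preimage_eq h.big (h.isAffineOpen_inf _ j) ((h.affine i).inf (h.affine j))
      ⟨genericPoint X, h.le_W i (h.genericPoint_mem i), h.genericPoint_mem j⟩
      ⟨genericPoint X, h.genericPoint_mem i, h.genericPoint_mem j⟩ ?_
    have h2 : X₀.ι ⁻¹ᵁ W (s i) = X₀.ι ⁻¹ᵁ V i := by rw [h.preimage_W, h.locus]
    change X₀.ι ⁻¹ᵁ W (s i) ⊓ X₀.ι ⁻¹ᵁ V j = X₀.ι ⁻¹ᵁ V i ⊓ X₀.ι ⁻¹ᵁ V j
    rw [h2]
  have h3 : x ∈ W (s i) ⊓ V j := ⟨hx, hj⟩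
  rw [h1] at h3
  exact h3.1

/-- The non-vanishing locus of a linear combination of the `s i` is affine. -/
theorem Cov.isAffineOpen_W [X.IsSeparated] (h : Cov V s) (w : Γ(L, ⊤)) (I : Finset ι)
    (c : ι → Γ(X₀.toScheme, ⊤)) (hw : w = ∑ i ∈ I, c i • s i) : IsAffineOpen (W w) := by
  have hg : IsGen (res _ (le_top : W w ≤ ⊤) (psh w)) := by
    have := isGen_sec_genLocus (homOf (psh w))
    rwa [sec_homOf] at this
  choose b hb using fun i => app_surjective h.normal h.big ⊤ (c i)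
  choose a ha using fun i => hg.exists_eq (res _ (le_top : W w ≤ ⊤) (psh (s i)))
  have hpw : psh w = ∑ i ∈ I, (b i : Γ(X, ⊤)) • psh (s i) := by
    rw [hw]
    change toPush X₀.ι (U := ⊤) (∑ i ∈ I, c i • s i) = _
    rw [map_sum]
    refine Finset.sum_congr rfl fun i _ => ?_
    rw [← hb i]
    rfl
  have h1 : ∑ i ∈ I, ores (le_top : W w ≤ ⊤) (b i) * a i = 1 := by
    refine hg.ext ?_
    rw [one_smul, Finset.sum_smul]
    conv_rhs => rw [hpw, map_sum]
    refine Finset.sum_congr rfl fun i _ => ?_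
    rw [res_smul, ha i, smul_smul]
  refine isAffineOpen_of_isAffineOpen_basicOpen _ (Set.range a) ?_ ?_
  · rw [Ideal.eq_top_iff_one, ← h1]
    exact Ideal.sum_mem _ fun i _ => Ideal.mul_mem_left _ _ (Ideal.subset_span ⟨i, rfl⟩)
  · rintro _ ⟨i, rfl⟩
    have h2 := genLocus_inf_eq (homOf (psh (s i))) hg (by rw [sec_homOf]; exact ha i)
    rw [← h2]
    change IsAffineOpen (W (s i) ⊓ W w)
    rw [h.W_eq i, inf_comm]
    exact h.isAffineOpen_inf w i

/-- If `s i` is a linear combination of the `w m`, then the loci of the `w m` cover `V i`. -/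
theorem Cov.exists_mem_W (h : Cov V s) (i : ι) {M : Type*} (E : Finset M) (w : M → Γ(L, ⊤))
    (c : M → Γ(X₀.toScheme, ⊤)) (hw : s i = ∑ m ∈ E, c m • w m) {x : X} (hx : x ∈ V i) :
    ∃ m ∈ E, x ∈ W (w m) := by
  choose b hb using fun m => app_surjective h.normal h.big ⊤ (c m)
  choose a ha ha' _ using fun m => h.exists_coord (w m) i
  have hpw : psh (s i) = ∑ m ∈ E, (b m : Γ(X, ⊤)) • psh (w m) := by
    conv_lhs => rw [hw]
    change toPush X₀.ι (U := ⊤) (∑ i ∈ E, c i • w i) = _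
    rw [map_sum]
    refine Finset.sum_congr rfl fun m _ => ?_
    rw [← hb m]
    rfl
  have h1 : ∑ m ∈ E, ores (le_top : V i ≤ ⊤) (b m) * a m = 1 := by
    refine (h.isGen_push i).ext ?_
    rw [one_smul, Finset.sum_smul]
    conv_rhs => rw [hpw, map_sum]
    refine Finset.sum_congr rfl fun m _ => ?_
    rw [res_smul, ha m, smul_smul]
  by_contra hne
  push Not at hne
  have h2 : ∀ m ∈ E, X.presheaf.germ (V i) x hx (a m) ∈ IsLocalRing.maximalIdeal (X.presheaf.stalk x) := by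
    intro m hm
    rw [IsLocalRing.mem_maximalIdeal, mem_nonunits_iff, ← Scheme.mem_basicOpen, ← ha' m]
    exact fun h3 => hne m hm h3.1
  have h3 := congrArg (X.presheaf.germ (V i) x hx) h1
  rw [map_sum, map_one] at h3
  have h4 : (1 : X.presheaf.stalk x) ∈ IsLocalRing.maximalIdeal (X.presheaf.stalk x) := by
    rw [← h3]
    refine Ideal.sum_mem _ fun m hm => ?_
    rw [map_mul]
    exact Ideal.mul_mem_left _ _ (h2 m hm)
  exact (IsLocalRing.maximalIdeal.isMaximal _).ne_top ((Ideal.eq_top_iff_one _).2 h4)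

end K395.BigPush
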