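import Groth.Agent.AlgGrp.K395.TorSec
import Groth.Agent.AlgGrp.K395.Act

/-!
# Stability of the non-vanishing loci of the isotypic components

`Chars T M`: the rational points of `T` with a family of characters `κ : M → (T(k) →* k)` spanning the functions on `T`
and containing, up to scalars, the units.

* `card_eq`: for rational points `z` of `Z` and `t` of `T`, the numbers of isotypic components not vanishing at `z` and
  at `t · z` agree;
* `stable`: the non-vanishing loci of the isotypic components have the same rational points as their translates.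
-/

set_option autoImplicit false
universe u
open CategoryTheory MonoidalCategory CartesianMonoidalCategory MonObj GrpObj AlgebraicGeometry Limits TopologicalSpace

namespace K395.TorStab

open Groth.Agent.Sga3B.AffPts Groth.Agent.Books.AlgPts Groth.Agent.Fdesc.LocGen
open Groth.Agent.Fga.LimSec (al al_comp al_congr basicOpen_al app_eq_al ores_al)
open TorEv TorDec TorMod LocEq

variable {k : Type u} [Field k] {T Z : Over (Spec (CommRingCat.of k))}

/-- The value of a local function at a rational point. -/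
noncomputable def valU (z : 𝟙_ (Over (Spec (CommRingCat.of k))) ⟶ Z) {V : Z.left.Opens}
    (h : (⊤ : (Spec (CommRingCat.of k)).Opens) ≤ z.left ⁻¹ᵁ V) : Γ(Z.left, V) →+* k :=
  (Scheme.ΓSpecIso (CommRingCat.of k)).hom.hom.comp (al z.left h)

theorem top_le {z : 𝟙_ (Over (Spec (CommRingCat.of k))) ⟶ Z} {V : Z.left.Opens} (h : pt z ∈ V) :
    (⊤ : (Spec (CommRingCat.of k)).Opens) ≤ z.left ⁻¹ᵁ V := by
  intro x _
  have : x = IsLocalRing.closedPoint k := Subsingleton.elim (α := PrimeSpectrum k) _ _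
  rw [this]
  exact h

theorem mem_basicOpen_iff' (z : 𝟙_ (Over (Spec (CommRingCat.of k))) ⟶ Z) {V : Z.left.Opens} (h : pt z ∈ V)
    (g : Γ(Z.left, V)) : pt z ∈ Z.left.basicOpen g ↔ valU z (top_le h) g ≠ 0 := by
  refine Iff.trans ?_ (mem_basicOpen_spec (al z.left (top_le h) g) (IsLocalRing.closedPoint k))
  have h1 := basicOpen_al z.left (top_le h) g
  refine Iff.trans ?_ (Iff.of_eq (congrArg (fun U : (Spec (CommRingCat.of k)).Opens =>
    IsLocalRing.closedPoint k ∈ U) h1)).symm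
  exact ⟨fun hz => ⟨trivial, hz⟩, fun hz => hz.2⟩

theorem valU_str (z : 𝟙_ (Over (Spec (CommRingCat.of k))) ⟶ Z) {V : Z.left.Opens}
    (h : (⊤ : (Spec (CommRingCat.of k)).Opens) ≤ z.left ⁻¹ᵁ V) (c : k) : valU z h (str V c) = c := by
  have h1 : al z.left h (str V c) = str (Z := 𝟙_ _) ⊤ c := al_str z h c
  change (Scheme.ΓSpecIso (CommRingCat.of k)).hom (al z.left h (str V c)) = c
  rw [h1]
  change (Scheme.ΓSpecIso (CommRingCat.of k)).hom (al (𝟙 (Spec (CommRingCat.of k))) _ _) = c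
  rw [al_id]
  exact congr($((Scheme.ΓSpecIso (CommRingCat.of k)).inv_hom_id) c)

/-- The map `t ↦ (t, z)`. -/
noncomputable def cz (T : Over (Spec (CommRingCat.of k))) (z : 𝟙_ (Over (Spec (CommRingCat.of k))) ⟶ Z) :
    T ⟶ T ⊗ Z := lift (𝟙 T) (toUnit T ≫ z)

theorem comp_cz (z : 𝟙_ (Over (Spec (CommRingCat.of k))) ⟶ Z) (t : 𝟙_ (Over (Spec (CommRingCat.of k))) ⟶ T) :
    t ≫ cz T z = z ≫ sc Z t := by
  rw [cz, sc, comp_lift, comp_lift, Category.comp_id, Category.comp_id]
  congr 1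
  · rw [← Category.assoc, toUnit_unique (z ≫ toUnit Z) (𝟙 _), Category.id_comp]
  · rw [← Category.assoc, toUnit_unique (t ≫ toUnit T) (𝟙 _), Category.id_comp]

theorem cz_le {z : 𝟙_ (Over (Spec (CommRingCat.of k))) ⟶ Z} {V : Z.left.Opens} (h : pt z ∈ V) :
    (⊤ : T.left.Opens) ≤ (cz T z).left ⁻¹ᵁ (snd T Z).left ⁻¹ᵁ V := by
  intro x _
  have h1 : (cz T z ≫ snd T Z) = toUnit T ≫ z := lift_snd _ _
  change ((cz T z).left ≫ (snd T Z).left) x ∈ V
  rw [← Over.comp_left, h1]
  have h2 : ((toUnit T ≫ z).left) x = z.left ((toUnit T).left x) := by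
    rw [Over.comp_left, Scheme.Hom.comp_apply]
  rw [h2]
  exact top_le h trivial

/-- The restriction of a function on `T × V` to `T × {z}`. -/
noncomputable def ev2 {z : 𝟙_ (Over (Spec (CommRingCat.of k))) ⟶ Z} {V : Z.left.Opens} (h : pt z ∈ V)
    (H : Γ((T ⊗ Z).left, (snd T Z).left ⁻¹ᵁ V)) : Fn T := al (cz T z).left (cz_le h) H

theorem val_ev2 {z : 𝟙_ (Over (Spec (CommRingCat.of k))) ⟶ Z} {V : Z.left.Opens} (h : pt z ∈ V)
    (H : Γ((T ⊗ Z).left, (snd T Z).left ⁻¹ᵁ V)) (t : 𝟙_ (Over (Spec (CommRingCat.of k))) ⟶ T) :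
    val t (ev2 h H) = valU z (top_le h) (at_ t V H) := by
  have h1 : t.left.appTop (al (cz T z).left (cz_le h) H) =
      al z.left (top_le h) (al (sc Z t).left (sc_le t V) H) := by
    have h2 : t.left.appTop (al (cz T z).left (cz_le h) H) =
      al t.left (U := ⊤) (W := ⊤) le_rfl (al (cz T z).left (cz_le h) H) := app_eq_al t.left ⊤ _
    rw [h2, al_comp, al_comp]
    exact al_congr (congrArg (fun f : 𝟙_ _ ⟶ T ⊗ Z => f.left) (comp_cz z t)) _ _ _
  exact congrArg (Scheme.ΓSpecIso (CommRingCat.of k)).hom h1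

theorem isLocEq_al {Y' Y Z : Scheme.{u}} {L : Z.Modules} {f : Y ⟶ Z} {s : Coh.structureModule Z ⟶ L} {U : Y.Opens}
    {F : Γ(Y, U)} (h : IsLocEq f s U F) (g : Y' ⟶ Y) {W : Y'.Opens} (hW : W ≤ g ⁻¹ᵁ U) :
    IsLocEq (g ≫ f) s W (al g hW F) := by
  have h1 := (h.comp g).res hW
  have h2 : ores hW (g.app U F) = al g hW F := by rw [app_eq_al, ores_al]
  rwa [h2] at h1

/-- The rational points of `T` with sufficiently many characters. -/
structure Chars (T : Over (Spec (CommRingCat.of k))) [GrpObj T] (M : Type*) [CommGroup M] where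
  /-- the characters on rational points -/
  κ : M → (𝟙_ (Over (Spec (CommRingCat.of k))) ⟶ T) →* k
  inj : Function.Injective κ
  mul : ∀ m m' t, κ (m * m') t = κ m t * κ m' t
  ne_zero : ∀ m t, κ m t ≠ 0
  comb : ∀ b : Fn T, ∃ c : M →₀ k, ∀ t, val t b = c.sum fun m x => x * κ m t
  unit : ∀ b : Fn T, IsUnit b → ∃ (c : k) (m : M), c ≠ 0 ∧ ∀ t, val t b = c * κ m t

section

variable [GrpObj T] {M : Type*} [CommGroup M] (C : Chars T M) (a : AlgGrp.Action T Z) {L : Z.left.Modules}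
  {s : Coh.structureModule Z.left ⟶ L}
  (S : (𝟙_ (Over (Spec (CommRingCat.of k))) ⟶ T) → (Coh.structureModule Z.left ⟶ L))
  (hS : ∀ (V : Z.left.Opens) (e : Γ(L, V)), IsGen e → ∃ H : Γ((T ⊗ Z).left, (snd T Z).left ⁻¹ᵁ V),
    IsLocEq a.act.left s _ H ∧ ∀ t, sec (S t) V = (at_ t V H : Γ(Z.left, V)) • e)
  (E : Finset M) (w : M → Γ(L, ⊤))
  (hw : ∀ t, sec (S t) ⊤ = ∑ m ∈ E, (str ⊤ (C.κ m t) : Γ(Z.left, ⊤)) • w m)

include hS hw

/-- The function `t ↦ s(t z)` on `T`. -/
theorem exists_fn (hL : PicF.IsInvertible L) (z : 𝟙_ (Over (Spec (CommRingCat.of k))) ⟶ Z) :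
    ∃ (P : Fn T) (c : M →₀ k), IsLocEq (cz T z ≫ a.act).left s ⊤ P ∧
      (∀ t, val t P = c.sum fun m x => x * C.κ m t) ∧
      ∀ m, m ∈ c.support ↔ m ∈ E ∧ pt z ∈ CohB1.genLocus L (homOf (w m)) := by
  classical
  obtain ⟨V, e, hzV, he⟩ := (isInvertible_iff L).1 hL (pt z)
  obtain ⟨H, hH, hH'⟩ := hS V e he
  choose g hg using fun m => he.exists_eq (res L (le_top : V ≤ ⊤) (w m))
  have h1 : ∀ t, at_ t V H = ∑ m ∈ E, str V (C.κ m t) * g m := by
    intro t
    refine he.ext ?_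
    rw [← hH' t, ← res_sec (S t) (le_top : V ≤ ⊤), hw t, map_sum, Finset.sum_smul]
    refine Finset.sum_congr rfl fun m _ => ?_
    rw [res_smul, ores_str, hg m, smul_smul]
  have hmem : ∀ m, pt z ∈ CohB1.genLocus L (homOf (w m)) ↔ valU z (top_le hzV) (g m) ≠ 0 := by
    intro m
    rw [← mem_basicOpen_iff' z hzV, ← genLocus_inf_eq (homOf (w m)) he (by rw [sec_homOf]; exact hg m)]
    exact ⟨fun h => ⟨h, hzV⟩, fun h => h.1⟩
  let c : M →₀ k := Finsupp.onFinset E (fun m => if m ∈ E then valU z (top_le hzV) (g m) else 0)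
    (fun m hm => by
      by_contra h
      exact hm (if_neg h))
  have hc : ∀ m ∈ E, c m = valU z (top_le hzV) (g m) := fun m hm => if_pos hm
  have hcs : c.support ⊆ E := Finsupp.support_onFinset_subset
  refine ⟨ev2 hzV H, c, isLocEq_al hH _ (cz_le hzV), fun t => ?_, fun m => ?_⟩
  · rw [val_ev2, h1, map_sum, Finsupp.sum_of_support_subset c hcs (fun m x => x * C.κ m t)
      (fun _ _ => zero_mul _)]
    refine Finset.sum_congr rfl fun m hm => ?_
    rw [map_mul, valU_str, hc m hm, mul_comm]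
  · rw [hmem m, Finsupp.mem_support_iff]
    by_cases hm : m ∈ E
    · rw [hc m hm]
      exact ⟨fun h => ⟨hm, h⟩, fun h => h.2⟩
    · have : c m = 0 := if_neg hm
      exact ⟨fun h => (h this).elim, fun h => (hm h.1).elim⟩

theorem card_eq (hL : PicF.IsInvertible L) (z : 𝟙_ (Over (Spec (CommRingCat.of k))) ⟶ Z)
    (t₀ : 𝟙_ (Over (Spec (CommRingCat.of k))) ⟶ T) [DecidablePred fun m => pt z ∈ CohB1.genLocus L (homOf (w m))]
    [DecidablePred fun m => pt (z ≫ Transl.tr a t₀) ∈ CohB1.genLocus L (homOf (w m))] :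
    (E.filter fun m => pt (z ≫ Transl.tr a t₀) ∈ CohB1.genLocus L (homOf (w m))).card =
      (E.filter fun m => pt z ∈ CohB1.genLocus L (homOf (w m))).card := by
  classical
  obtain ⟨P, c, hP, hPc, hc⟩ := exists_fn C a S hS E w hw hL z
  obtain ⟨P', c', hP', hPc', hc'⟩ := exists_fn C a S hS E w hw hL (z ≫ Transl.tr a t₀)
  have e1 : c.support = E.filter fun m => pt z ∈ CohB1.genLocus L (homOf (w m)) := by
    ext m
    rw [hc, Finset.mem_filter]
  have e2 : c'.support = E.filter fun m => pt (z ≫ Transl.tr a t₀) ∈ CohB1.genLocus L (homOf (w m)) := by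
    ext m
    rw [hc', Finset.mem_filter]
  rw [← e1, ← e2]
  let τ : T ⟶ T := 𝟙 T * (toUnit T ≫ t₀)
  have hτ : τ ≫ cz T z ≫ a.act = cz T (z ≫ Transl.tr a t₀) ≫ a.act := by
    have h1 : τ ≫ cz T z = lift τ (toUnit T ≫ z) := by
      rw [cz, comp_lift, Category.comp_id, ← Category.assoc, toUnit_unique (τ ≫ toUnit T) (toUnit T)]
    rw [← Category.assoc, h1, Act.mul_lift, cz, Transl.comp_tr, ← Category.assoc, comp_lift, ← Category.assoc,
      toUnit_unique (toUnit T ≫ toUnit _) (toUnit T)]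
  have hQ : IsLocEq (cz T (z ≫ Transl.tr a t₀) ≫ a.act).left s ⊤ (fnMap τ P : Γ(T.left, ⊤)) := by
    rw [← hτ]
    have h2 := isLocEq_al hP τ.left (W := ⊤) le_top
    have h3 : al τ.left (U := ⊤) (W := ⊤) le_top (P : Γ(T.left, ⊤)) = fnMap τ P :=
      (app_eq_al τ.left ⊤ _).symm
    rw [h3] at h2
    exact h2
  obtain ⟨u, hu, hu'⟩ := hQ.exists_unit hP'
  obtain ⟨x, d, hx, hxd⟩ := C.unit u hu
  refine CharInd.card_support_eq C.κ C.inj C.mul C.ne_zero c' c x hx d t₀ fun t => ?_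
  rw [← hPc', ← hxd, ← hPc, hu']
  have h4 : val t (fnMap τ P) = val (t * t₀) P := by
    rw [val_fnMap]
    congr 2
    rw [MonObj.comp_mul, Category.comp_id, ← Category.assoc, toUnit_unique (t ≫ toUnit T) (𝟙 _), Category.id_comp]
  rw [← h4]
  exact map_mul (val t) _ _

/-- The non-vanishing loci of the isotypic components have the same rational points as their translates. -/
theorem stable [IsAlgClosed k] [LocallyOfFiniteType T.hom] [LocallyOfFiniteType Z.hom] [IrreducibleSpace T.left]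
    (hL : PicF.IsInvertible L)
    (z : 𝟙_ (Over (Spec (CommRingCat.of k))) ⟶ Z) (t : 𝟙_ (Over (Spec (CommRingCat.of k))) ⟶ T) (m : M)
    (hm : m ∈ E) : pt (z ≫ Transl.tr a t) ∈ CohB1.genLocus L (homOf (w m)) ↔
      pt z ∈ CohB1.genLocus L (homOf (w m)) := by
  classical
  let o : T ⟶ Z := cz T z ≫ a.act
  have ho : ∀ t, t ≫ o = z ≫ Transl.tr a t := by
    intro t
    rw [← Category.assoc, comp_cz, Category.assoc]
    rfl
  let E' := E.filter fun m => ((o.left ⁻¹ᵁ CohB1.genLocus L (homOf (w m)) : T.left.Opens) : Set T.left).Nonempty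
  have hfin : ∀ F : Finset M, F ⊆ E' → ∃ O : T.left.Opens, (O : Set T.left).Nonempty ∧
      ∀ m ∈ F, O ≤ o.left ⁻¹ᵁ CohB1.genLocus L (homOf (w m)) := by
    intro F
    induction F using Finset.induction_on with
    | empty => exact fun _ => ⟨⊤, Set.univ_nonempty, fun m hm => absurd hm (Finset.notMem_empty m)⟩
    | insert m F _ ih =>
      intro hF
      obtain ⟨O, hO, hO'⟩ := ih ((Finset.subset_insert m F).trans hF)
      refine ⟨O ⊓ o.left ⁻¹ᵁ CohB1.genLocus L (homOf (w m)), ?_, fun m' hm' => ?_⟩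
      · exact nonempty_preirreducible_inter O.2 (o.left ⁻¹ᵁ CohB1.genLocus L (homOf (w m))).2 hO
          (Finset.mem_filter.1 (hF (Finset.mem_insert_self m F))).2
      · rcases Finset.mem_insert.1 hm' with rfl | h
        · exact inf_le_right
        · exact inf_le_left.trans (hO' m' h)
  obtain ⟨O, hO, hO'⟩ := hfin E' subset_rfl
  obtain ⟨t₁, ht₁⟩ := exists_pt_mem (X := T) hO O.2.isLocallyClosed
  have hN : ∀ t, (E.filter fun m => pt (z ≫ Transl.tr a t) ∈ CohB1.genLocus L (homOf (w m))) ⊆ E' := by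
    intro t m' hm'
    rw [Finset.mem_filter] at hm'
    refine Finset.mem_filter.2 ⟨hm'.1, pt t, ?_⟩
    change o.left (pt t) ∈ CohB1.genLocus L (homOf (w m'))
    rw [← pt_comp, ho]
    exact hm'.2
  have hN1 : (E.filter fun m => pt (z ≫ Transl.tr a t₁) ∈ CohB1.genLocus L (homOf (w m))) = E' := by
    refine Finset.Subset.antisymm (hN t₁) fun m' hm' => ?_
    refine Finset.mem_filter.2 ⟨(Finset.mem_filter.1 hm').1, ?_⟩
    have h1 := hO' m' hm' ht₁
    change o.left (pt t₁) ∈ CohB1.genLocus L (homOf (w m')) at h1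
    rwa [← pt_comp, ho] at h1
  have hcard : ∀ t, (E.filter fun m => pt (z ≫ Transl.tr a t) ∈ CohB1.genLocus L (homOf (w m))) = E' := by
    intro t
    refine Finset.eq_of_subset_of_card_le (hN t) ?_
    rw [← hN1, card_eq C a S hS E w hw hL z t, card_eq C a S hS E w hw hL z t₁]
  have h2 := hcard t
  have h3 := hcard 1
  rw [Transl.tr_one, Category.comp_id] at h3
  have h4 : m ∈ (E.filter fun m => pt (z ≫ Transl.tr a t) ∈ CohB1.genLocus L (homOf (w m))) ↔
      m ∈ (E.filter fun m => pt z ∈ CohB1.genLocus L (homOf (w m))) := by rw [h2, h3]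
  rw [Finset.mem_filter, Finset.mem_filter] at h4
  exact ⟨fun h => (h4.1 ⟨hm, h⟩).2, fun h => (h4.2 ⟨hm, h⟩).2⟩

end

end K395.TorStab
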