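import Groth.Agent.AlgGrp.K395.SumiQP
import Groth.Agent.AlgGrp.K395.BigPush
import Groth.Agent.AlgGrp.K395.TorStab
import Groth.Agent.AlgGrp.K407.LocPoly
import Groth.Agent.Pi1.H413.SecChart

/-!
# Sumihiro's theorem for tori

A normal variety with an action of a torus over an algebraically closed field is covered by stable affine opens.
-/

set_option autoImplicit false
universe u
open CategoryTheory CategoryTheory.Limits AlgebraicGeometry TopologicalSpace MonoidalCategory CartesianMonoidalCategory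
  MonObj GrpObj
open K413.Saturate K395.NormExt K395.SmLoc K395.BigAmple K395.TorEv K395.TorDec K395.TorSec K395.TorStab K395.BigPush
open Groth.Agent.Grpsch.PicGrp Groth.Agent.Books.AlgPts Groth.Agent.Fdesc.LocGen Groth.Agent.Books.AffBridge

namespace K395.SumiTorus

variable {k : Type u} [Field k] {T X : Over (Spec (CommRingCat.of k))} [GrpObj T]

/-- The characters of a split torus. -/
noncomputable def chars [IsAlgClosed k] {M : Type} [CommGroup M] [IsDomain (MonoidAlgebra k M)] [TwoUniqueProds M]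
    (e : T ≅ SpecOver k (MonoidAlgebra k M)) [IsMonHom e.hom] [LocallyOfFiniteType T.hom] : Chars T M where
  κ := kap e
  inj := kap_injective e
  mul := kap_mul e
  ne_zero := kap_ne_zero e
  comb b := by
    obtain ⟨a, rfl⟩ := (fnT_bijective e).2 b
    exact ⟨a.coeff, val_fnT e a⟩
  unit b hb := exists_of_isUnit e b hb

/-- What is used of the torus. -/
structure IsGood (T : Over (Spec (CommRingCat.of k))) [GrpObj T] (M : Type) [CommGroup M] : Prop where
  affine : IsAffine T.left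
  smooth : Smooth T.hom
  irred : IrreducibleSpace T.left
  chars : Nonempty (Chars T M)
  pic : ∀ (Z : Over (Spec (CommRingCat.of k))) [LocallyOfFiniteType Z.hom] (_ : Pi1.IsNormalScheme Z.left)
    (c : Pic (T ⊗ Z).left), pull (snd T Z).left (pull (sc Z (1 : 𝟙_ _ ⟶ T)).left c) = c

theorem isGood [IsAlgClosed k] {r : ℕ} (hT : Red.IsSplitTorusWith (Fin r → ℤ) T) :
    IsGood T (Multiplicative (Fin r → ℤ)) := by
  obtain ⟨e, he⟩ := Groth.Agent.Sga3B.RG.BrDiag.isSplitTorusWith_iff.1 hT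
  obtain ⟨n, j, hj, hj'⟩ : ∃ (n : ℕ) (j : (SpecOver k (MonoidAlgebra k (Multiplicative (Fin r → ℤ)))).left ⟶
      𝔸(ULift.{u} (Fin n); Spec (CommRingCat.of k))), IsOpenImmersion j ∧
        j ≫ (𝔸(ULift.{u} (Fin n); Spec (CommRingCat.of k)) ↘ Spec (CommRingCat.of k)) =
          (SpecOver k (MonoidAlgebra k (Multiplicative (Fin r → ℤ)))).hom :=
    K407.LocPoly.IsLocPoly.exists_openImmersion (K407.LocPoly.isLocPoly_group (K := k) r)
  have hj1 : IsOpenImmersion (e.hom.left ≫ j) := inferInstance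
  have hj2 : (e.hom.left ≫ j) ≫ (𝔸(ULift.{u} (Fin n); Spec (CommRingCat.of k)) ↘ Spec (CommRingCat.of k)) =
      T.hom := by
    rw [Category.assoc, hj']
    exact Over.w e.hom
  have hsm : Smooth T.hom := by
    have := Groth.Agent.Pi1.H413.SecChart.smooth_affineSpace (ULift.{u} (Fin n)) (Spec (CommRingCat.of k))
    rw [← hj2]
    infer_instance
  refine ⟨?_, hsm, ?_, ⟨chars e⟩, fun Z _ hZ c => ?_⟩
  · exact IsAffine.of_isIso e.hom.left
  · have h1 : IrreducibleSpace (SpecOver k (MonoidAlgebra k (Multiplicative (Fin r → ℤ)))).left :=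
      inferInstanceAs (IrreducibleSpace (PrimeSpectrum (MonoidAlgebra k (Multiplicative (Fin r → ℤ)))))
    have h2 : Nonempty T.left := ⟨(1 : 𝟙_ (Over (Spec (CommRingCat.of k))) ⟶ T).left (IsLocalRing.closedPoint k)⟩
    exact e.hom.left.isOpenEmbedding.irreducibleSpace
  · exact PicRat.eq_pull_snd T Z (e.hom.left ≫ j) hj2 hZ c 1

/-- An affine open is, on the smooth locus, the non-vanishing locus of a section of an invertible module. -/
theorem exists_module [PerfectField k] (X : Over (Spec (CommRingCat.of k))) [IsIntegral X.left] [IsSeparated X.hom]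
    [LocallyOfFiniteType X.hom] [QuasiCompact X.hom] (hX : Pi1.IsNormalScheme X.left)
    {U : X.left.Opens} (hU : IsAffineOpen U) (hne : (U : Set X.left).Nonempty) :
    ∃ (L : X.hom.smoothLocus.toScheme.Modules) (s : Coh.structureModule _ ⟶ L), PicF.IsInvertible L ∧
      CohB1.genLocus L s = X.hom.smoothLocus.ι ⁻¹ᵁ U := by
  have hN : IsLocallyNoetherian X.left := LocallyOfFiniteType.isLocallyNoetherian X.hom
  have hC : CompactSpace X.left := QuasiCompact.compactSpace_of_compactSpace X.hom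
  have : IsNoetherian X.left := {}
  have hS : X.left.IsSeparated := ⟨by
    rw [← terminal.comp_from X.hom]
    infer_instance⟩
  set X₀ := X.hom.smoothLocus with hX₀
  have h₀ : Big X₀ := big_smoothLocus X.hom hX
  have hsm : Smooth (X₀.ι ≫ X.hom) := Groth.Agent.Sga4h.H915.SmoothPart.smooth_smoothLocus X.hom
  have hgen := nonempty_inf_big h₀ hne
  have hZ1 : IsLocallyNoetherian X₀.toScheme := LocallyOfFiniteType.isLocallyNoetherian (X₀.ι ≫ X.hom)
  have hZ2 : CompactSpace X₀.toScheme := isCompact_iff_compactSpace.1 (TopologicalSpace.NoetherianSpace.isCompact _)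
  have hZ : IsNoetherian X₀.toScheme := {}
  have hZn : Nonempty X₀ := ⟨⟨_, hgen.2⟩⟩
  have hZi : IsIntegral X₀.toScheme := inferInstance
  have hUa : IsAffineHom U.ι := isAffineHom_ι hU
  let W : X₀.toScheme.Opens := X₀.ι ⁻¹ᵁ U
  have hWa : IsAffineHom W.ι :=
    MorphismProperty.of_isPullback (P := @IsAffineHom) (isPullback_morphismRestrict X₀.ι U) hUa
  have hWd : Dense (W : Set X₀.toScheme) := W.2.dense ⟨⟨_, hgen.2⟩, hgen.1⟩
  exact exists_section_compl W hWd fun x _ => by
    let _ : X₀.toScheme.Over (Spec (CommRingCat.of k)) := ⟨X₀.ι ≫ X.hom⟩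
    have : Smooth (X₀.toScheme ↘ Spec (CommRingCat.of k)) := hsm
    have := Groth.Agent.S1535.result k X₀.toScheme x
    exact Groth.Agent.S2821.result _

/-- Stability under the rational points implies stability. -/
theorem sat_subset_of_points [IsAlgClosed k] [LocallyOfFiniteType T.hom] [LocallyOfFiniteType X.hom]
    (a : AlgGrp.Action T X) (W : X.left.Opens)
    (h : ∀ t : 𝟙_ (Over (Spec (CommRingCat.of k))) ⟶ T, (Transl.tr a t).left ⁻¹ᵁ W = W) :
    sat a (W : Set X.left) ⊆ W := by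
  rintro _ ⟨p, hp, rfl⟩
  by_contra hn
  have : LocallyOfFiniteType (snd T X).left := Act.snd_mem @LocallyOfFiniteType T X inferInstance
  have : LocallyOfFiniteType (T ⊗ X).hom := by
    rw [← Over.w (snd T X)]
    infer_instance
  obtain ⟨q, hq1, hq2⟩ := exists_pt_mem (X := T ⊗ X) (U := (snd T X).left ⁻¹' W ∩ a.act.left ⁻¹' (W : Set X.left)ᶜ)
    ⟨p, hp, hn⟩ ((W.2.preimage (snd T X).left.continuous).isLocallyClosed.inter
      (W.2.isClosed_compl.preimage a.act.left.continuous).isLocallyClosed)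
  refine hq2 ?_
  have h1 : q ≫ a.act = (q ≫ snd T X) ≫ Transl.tr a (q ≫ fst T X) := by
    rw [Transl.comp_tr, toUnit_unique (toUnit (𝟙_ (Over (Spec (CommRingCat.of k))))) (𝟙 _), Category.id_comp,
      ← comp_lift, lift_fst_snd, Category.comp_id]
  have h2 : pt (q ≫ snd T X) ∈ W := by rw [pt_comp]; exact hq1
  have h3 : pt (q ≫ a.act) ∈ W := by
    rw [h1, pt_comp]
    have h4 : pt (q ≫ snd T X) ∈ (Transl.tr a (q ≫ fst T X)).left ⁻¹ᵁ W := by rw [h]; exact h2
    exact h4
  rw [pt_comp] at h3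
  exact h3

theorem subset_of_forall_pt' [IsAlgClosed k] {Z : Over (Spec (CommRingCat.of k))} [LocallyOfFiniteType Z.hom]
    (A B : Z.left.Opens) (h : ∀ z : 𝟙_ (Over (Spec (CommRingCat.of k))) ⟶ Z, pt z ∈ A → pt z ∈ B) :
    (A : Set Z.left) ⊆ B := by
  intro y hy
  by_contra hn
  obtain ⟨z, hz1, hz2⟩ := exists_pt_mem (X := Z) (U := (A : Set Z.left) ∩ (B : Set Z.left)ᶜ) ⟨y, hy, hn⟩
    (A.2.isLocallyClosed.inter B.2.isClosed_compl.isLocallyClosed)
  exact hz2 (h z hz1)

/-- The main step. -/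
theorem exists_stable_affine [IsAlgClosed k] {M : Type} [CommGroup M] (hT : IsGood T M) [IsIntegral X.left]
    [IsSeparated X.hom] [LocallyOfFiniteType X.hom] [QuasiCompact X.hom] (hX : Pi1.IsNormalScheme X.left)
    (a : AlgGrp.Action T X) {U : X.left.Opens} (hU : IsAffineOpen U) (h : sat a (U : Set X.left) = Set.univ)
    {x : X.left} (hx : x ∈ U) :
    ∃ W : X.left.Opens, x ∈ W ∧ IsAffineOpen W ∧ sat a (W : Set X.left) ⊆ W := by
  have hTs := hT.smooth
  have hTa := hT.affine
  have hTi := hT.irred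
  obtain ⟨C⟩ := hT.chars
  have hne : (U : Set X.left).Nonempty := ⟨x, hx⟩
  have hN : IsLocallyNoetherian X.left := LocallyOfFiniteType.isLocallyNoetherian X.hom
  have hS : X.left.IsSeparated := ⟨by
    rw [← terminal.comp_from X.hom]
    infer_instance⟩
  obtain ⟨X₀, hX₀⟩ : ∃ X₀ : X.left.Opens, X₀ = X.hom.smoothLocus := ⟨_, rfl⟩
  obtain ⟨L, s, hL, hs⟩ : ∃ (L : X₀.toScheme.Modules) (s : Coh.structureModule _ ⟶ L), PicF.IsInvertible L ∧
      CohB1.genLocus L s = X₀.ι ⁻¹ᵁ U := by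
    rw [hX₀]
    exact exists_module X hX hU hne
  have h₀ : Big X₀ := by
    rw [hX₀]
    exact big_smoothLocus X.hom hX
  have hst : sat a (X₀ : Set X.left) ⊆ X₀ := by
    rw [hX₀]
    exact sat_smoothLocus_subset a
  have hgen := nonempty_inf_big h₀ hne
  have hZn : Nonempty X₀ := ⟨⟨_, hgen.2⟩⟩
  have hZi : IsIntegral (sub X₀).left := inferInstanceAs (IsIntegral X₀.toScheme)
  have hlft : LocallyOfFiniteType (sub X₀).hom := inferInstanceAs (LocallyOfFiniteType (X₀.ι ≫ X.hom))
  let b := restr a hst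
  have hφ : Nonempty ((Scheme.Modules.pullback b.act.left).obj L ≅
      (Scheme.Modules.pullback (snd T (sub X₀)).left).obj L) := by
    have h1 := hT.pic (sub X₀) (K436.FibNormal.isNormalScheme_opens hX X₀) (pull b.act.left
      (Groth.Agent.Grpsch.PicGrp.mk (X := (sub X₀).left) L hL))
    have h2 : sc (sub X₀) (1 : 𝟙_ _ ⟶ T) ≫ b.act = 𝟙 (sub X₀) := by
      rw [sc, MonObj.comp_one, Act.one_lift]
    have h3 : ∀ c : Pic (sub X₀).left, pull (sc (sub X₀) (1 : 𝟙_ _ ⟶ T)).left (pull b.act.left c) = c := by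
      intro c
      rw [← pull_comp, ← Over.comp_left, h2, Over.id_left, pull_id]
    rw [h3, pull_mk, pull_mk, mk_eq_iff] at h1
    exact h1.map Iso.symm
  obtain ⟨φ⟩ := hφ
  obtain ⟨S, hS1, hS2⟩ := exists_sections (X := sub X₀) b.act hL s φ
  obtain ⟨E, w, hw, hw'⟩ := exists_components (X := sub X₀) hL S (fun V e he => by
    obtain ⟨H, -, hH⟩ := hS2 V e he
    exact ⟨H, hH⟩) C.κ C.inj C.comb
  have hcov : Cov (X₀ := X₀) (L := L) (fun t : 𝟙_ (Over (Spec (CommRingCat.of k))) ⟶ T =>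
      (Transl.tr a t).left ⁻¹ᵁ U) (fun t => sec (S t) ⊤) := by
    refine ⟨hX, h₀, fun t => hU.preimage _, fun t => hne.preimage (Transl.tr a t).left.surjective,
      SumiQP.iSup_translate_eq_top a U h, fun t => ?_⟩
    rw [homOf_sec, hS1 t, hs]
    exact congrArg (fun q : sub X₀ ⟶ X => q.left ⁻¹ᵁ U) (tr_restr_inc a hst t)
  -- the stable affine opens
  have hAff : ∀ m ∈ E, IsAffineOpen (W (w m)) := by
    intro m hm
    obtain ⟨c, hc⟩ := hw' m hm
    exact hcov.isAffineOpen_W (w m) c.support (fun t => str (Z := sub X₀) ⊤ (c t)) hc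
  have hStab : ∀ m ∈ E, ∀ t : 𝟙_ (Over (Spec (CommRingCat.of k))) ⟶ T,
      (Transl.tr a t).left ⁻¹ᵁ W (w m) = W (w m) := by
    intro m hm t
    by_cases hWne : ((W (w m) : X.left.Opens) : Set X.left).Nonempty
    · refine eq_of_preimage_eq h₀ ((hAff m hm).preimage _) (hAff m hm)
        (hWne.preimage (Transl.tr a t).left.surjective) hWne ?_
      have h1 : X₀.ι ⁻¹ᵁ ((Transl.tr a t).left ⁻¹ᵁ W (w m)) =
          (Transl.tr b t).left ⁻¹ᵁ (X₀.ι ⁻¹ᵁ W (w m)) :=
        (congrArg (fun q : sub X₀ ⟶ X => q.left ⁻¹ᵁ W (w m)) (tr_restr_inc a hst t)).symm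
      rw [h1, hcov.preimage_W]
      have key : ∀ z : 𝟙_ (Over (Spec (CommRingCat.of k))) ⟶ sub X₀,
          pt z ∈ (Transl.tr b t).left ⁻¹ᵁ CohB1.genLocus _ (homOf (w m)) ↔ pt z ∈ CohB1.genLocus _ (homOf (w m)) := by
        intro z
        rw [← stable C b S hS2 E w hw hL z t m hm, pt_comp]
        rfl
      apply Opens.ext
      refine Set.Subset.antisymm ?_ ?_
      · refine subset_of_forall_pt' _ _ fun z hz => (key z).1 hz
      · refine subset_of_forall_pt' _ _ fun z hz => (key z).2 hz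
    · have h1 : W (w m) = ⊥ := by
        apply Opens.ext
        exact Set.not_nonempty_iff_eq_empty.1 hWne
      rw [h1]
      rfl
  have h1x : x ∈ (Transl.tr a (1 : 𝟙_ _ ⟶ T)).left ⁻¹ᵁ U := by
    rw [Transl.tr_one]
    exact hx
  obtain ⟨m, hm, hxm⟩ := hcov.exists_mem_W 1 E w (fun m => str (Z := sub X₀) ⊤ (C.κ m 1)) (hw 1) h1x
  exact ⟨W (w m), hxm, hAff m hm, sat_subset_of_points a _ (hStab m hm)⟩

/-- The stable open generated by an affine open, as a variety with action; `P` is any property of stable opens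
which may be tested in it. -/
theorem exists_stable_of_sat {G X : Over (Spec (CommRingCat.of k))} [GrpObj G] [UniversallyOpen G.hom]
    (a : AlgGrp.Action G X) (x : X.left) :
    ∃ (V U : X.left.Opens) (hst : sat a (U : Set X.left) ⊆ U), x ∈ V ∧ IsAffineOpen V ∧ V ≤ U ∧
      sat (restr a hst) ((U.ι ⁻¹ᵁ V : (sub U).left.Opens) : Set (sub U).left) = Set.univ := by
  obtain ⟨V, hV, hxV, -⟩ := exists_isAffineOpen_mem_and_subset (x := x) (U := (⊤ : X.left.Opens)) trivial
  let U : X.left.Opens := ⟨sat a V, isOpen_sat a inferInstance V.2⟩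
  have hVU : V ≤ U := subset_sat a V
  have hst : sat a (U : Set X.left) ⊆ U := sat_sat a V
  refine ⟨V, U, hst, hxV, hV, hVU, Set.eq_univ_of_forall fun y => ?_⟩
  obtain ⟨p, hp1, hp2⟩ := y.2
  obtain ⟨r, hr1, hr2⟩ := Scheme.exists_preimage_of_isPullback
    (Groth.Agent.Sga3C.SchemImage.isPullback_whiskerLeft_left (inc U) G) p (⟨(snd G X).left p, hVU hp1⟩ : U) rfl
  refine ⟨r, ?_, ?_⟩
  · change ((snd G (sub U)).left r).1 ∈ V
    rw [hr2]
    exact hp1
  · apply (inc U).left.isOpenEmbedding.injective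
    rw [← comp_left_apply, restr_act_inc, comp_left_apply, hr1]
    exact hp2

/-- Stable opens of a stable open are stable. -/
theorem sat_image_subset {G X : Over (Spec (CommRingCat.of k))} [GrpObj G] (a : AlgGrp.Action G X)
    {U : X.left.Opens} (hst : sat a (U : Set X.left) ⊆ U) (W : (sub U).left.Opens)
    (hW : sat (restr a hst) (W : Set (sub U).left) ⊆ W) :
    sat a ((U.ι ''ᵁ W : X.left.Opens) : Set X.left) ⊆ (U.ι ''ᵁ W : X.left.Opens) := by
  rintro _ ⟨p, ⟨y, hy, hyp⟩, rfl⟩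
  obtain ⟨r, hr1, hr2⟩ := Scheme.exists_preimage_of_isPullback
    (Groth.Agent.Sga3C.SchemImage.isPullback_whiskerLeft_left (inc U) G) p y hyp.symm
  have h1 : (restr a hst).act.left r ∈ W := hW ⟨r, by rw [Set.mem_preimage, hr2]; exact hy, rfl⟩
  refine ⟨_, h1, ?_⟩
  change (inc U).left _ = _
  rw [← comp_left_apply, restr_act_inc, comp_left_apply, hr1]

/-- Sumihiro's theorem for tori. -/
theorem exists_affine_nhd [IsAlgClosed k] {M : Type} [CommGroup M] (hT : IsGood T M) [IsIntegral X.left]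
    [IsSeparated X.hom] [LocallyOfFiniteType X.hom] [QuasiCompact X.hom] (hX : Pi1.IsNormalScheme X.left)
    (a : AlgGrp.Action T X) (x : X.left) :
    ∃ U : X.left.Opens, x ∈ U ∧ IsAffineOpen U ∧ a.act.left ⁻¹ᵁ U = (snd T X).left ⁻¹ᵁ U := by
  have hTs := hT.smooth
  have hN : IsLocallyNoetherian X.left := LocallyOfFiniteType.isLocallyNoetherian X.hom
  have hC : CompactSpace X.left := QuasiCompact.compactSpace_of_compactSpace X.hom
  have : IsNoetherian X.left := {}
  obtain ⟨V, U, hst, hxV, hV, hVU, hsat⟩ := exists_stable_of_sat a x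
  have hUn : Nonempty U := ⟨⟨x, hVU hxV⟩⟩
  have hi : IsIntegral (sub U).left := inferInstanceAs (IsIntegral U.toScheme)
  have hsep : IsSeparated (sub U).hom := inferInstanceAs (IsSeparated (U.ι ≫ X.hom))
  have h1 : LocallyOfFiniteType (sub U).hom := inferInstanceAs (LocallyOfFiniteType (U.ι ≫ X.hom))
  have h2 : QuasiCompact (sub U).hom := inferInstanceAs (QuasiCompact (U.ι ≫ X.hom))
  have hV' : IsAffineOpen (X := (sub U).left) (U.ι ⁻¹ᵁ V) :=
    hV.preimage_of_isOpenImmersion U.ι (by simpa using hVU)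
  obtain ⟨W, hxW, hW, hWst⟩ := exists_stable_affine (X := sub U) hT (K436.FibNormal.isNormalScheme_opens hX U)
    (restr a hst) hV' hsat (x := ⟨x, hVU hxV⟩) hxV
  refine ⟨U.ι ''ᵁ W, ⟨_, hxW, rfl⟩, hW.image_of_isOpenImmersion U.ι, ?_⟩
  apply Opens.ext
  exact (preimage_eq a (sat_image_subset a hst W hWst)).symm

end K395.SumiTorus
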