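import Groth.Agent.Books.AntiAffine

/-!
# Rigidity for anti-affine schemes acting on pointed schemes

Generalities extracted from `Books.AntiAffine`: let `H` be a pointed quasi-compact quasi-separated `K`-scheme whose
global functions are the constants.  Two morphisms `a b : H ⊗ Spec O_{X,x} ⟶ Y` (`x` a rational point, `Y` separated)
which are constant on `H × x` with the same value and agree on `e × Spec O_{X,x}` are equal.
-/

set_option autoImplicit false

open CategoryTheory Limits MonoidalCategory CartesianMonoidalCategory MonObj AlgebraicGeometry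

universe u
variable {K : Type u} [Field K]

namespace K395.Anti

open Groth.Agent.Books.AntiAffine IsLocalRing

set_option backward.isDefEq.respectTransparency false in
theorem isIso_section (H : Over (Spec (.of K))) (e : 𝟙_ _ ⟶ H) [CompactSpace H.left] [QuasiSeparatedSpace H.left]
    [IsIso H.hom.appTop] (T : Over (Spec (.of K))) [IsAffine T.left] :
    IsIso (lift (toUnit T ≫ e) (𝟙 T)).left.appTop := by
  have H1 : IsPullback (fst H T).left (snd H T).left H.hom T.hom := IsPullback.of_hasPullback _ _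
  have hflat : Flat T.hom := inferInstance
  have h := isPushout_appTop_of_flat H1
  have h1 : IsIso (snd H T).left.appTop := h.isIso_inr_of_isIso
  have h2 : (lift (toUnit T ≫ e) (𝟙 T)).left ≫ (snd H T).left = 𝟙 _ := by
    rw [← Over.comp_left]; simp
  have h3 := congr(($h2).appTop)
  rw [Scheme.Hom.comp_appTop] at h3
  have h4 : (lift (toUnit T ≫ e) (𝟙 T)).left.appTop = inv (snd H T).left.appTop := by
    rw [← cancel_epi (snd H T).left.appTop, h3]; simp
  rw [h4]
  infer_instance

theorem rigid_gen (H : Over (Spec (.of K))) (e : 𝟙_ _ ⟶ H) [CompactSpace H.left] [QuasiSeparatedSpace H.left]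
    [IsIso H.hom.appTop] (T P Y : Over (Spec (.of K))) [IsAffine T.left] (i : P ⟶ T) [Surjective i.left]
    (y : 𝟙_ _ ⟶ Y) (α β : H ⊗ T ⟶ Y) (h1 : H ◁ i ≫ α = toUnit _ ≫ y) (h2 : H ◁ i ≫ β = toUnit _ ≫ y)
    (hsα : lift (toUnit T ≫ e) (𝟙 T) ≫ α = lift (toUnit T ≫ e) (𝟙 T) ≫ β) : α = β := by
  let pt : (Spec (.of K)) := IsLocalRing.closedPoint K
  let y0 : Y.left := y.left pt
  obtain ⟨U, hU, hxU⟩ : ∃ U : Y.left.Opens, IsAffineOpen U ∧ y0 ∈ U := by
    obtain ⟨_, ⟨U, hU, rfl⟩, hxU, -⟩ := Y.left.isBasis_affineOpens.exists_subset_of_mem_open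
      (Set.mem_univ y0) isOpen_univ
    exact ⟨U, hU, hxU⟩
  have hs : Surjective (H ◁ i).left := whiskerLeft_left_mem @Surjective _ _ inferInstance
  have h3 : ∀ (γ : H ⊗ T ⟶ Y), H ◁ i ≫ γ = toUnit _ ≫ y → Set.range γ.left ⊆ Set.range U.ι := by
    rintro γ hγ _ ⟨x, rfl⟩
    obtain ⟨z, rfl⟩ := hs.surj x
    rw [← Scheme.Hom.comp_apply, ← Over.comp_left, hγ, Over.comp_left, Scheme.Hom.comp_apply]
    have hsub : Subsingleton (𝟙_ (Over (Spec (.of K)))).left := inferInstanceAs (Subsingleton (Spec (.of K)))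
    rw [Subsingleton.elim ((toUnit (H ⊗ P)).left z) pt]
    simpa using hxU
  have h4 := h3 α h1
  have h5 := h3 β h2
  have : IsAffine U.toScheme := hU
  let α' := IsOpenImmersion.lift U.ι α.left h4
  let β' := IsOpenImmersion.lift U.ι β.left h5
  have hα' : α' ≫ U.ι = α.left := IsOpenImmersion.lift_fac _ _ _
  have hβ' : β' ≫ U.ι = β.left := IsOpenImmersion.lift_fac _ _ _
  let s := lift (toUnit T ≫ e) (𝟙 T)
  have hs' : s.left ≫ α' = s.left ≫ β' := by
    rw [← cancel_mono U.ι, Category.assoc, Category.assoc, hα', hβ', ← Over.comp_left, hsα, Over.comp_left]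
  have hiso := isIso_section H e T
  have h6 : α' = β' := by
    apply ext_of_isAffine
    have := congr(($hs').appTop)
    rw [Scheme.Hom.comp_appTop, Scheme.Hom.comp_appTop] at this
    exact (cancel_mono _).mp this
  ext1
  rw [← hα', ← hβ', h6]

/-- The canonical `K`-point of `Spec O_{X,x}`, `x` a rational point. -/
noncomputable def locPt (X : Over (Spec (.of K))) (x : 𝟙_ _ ⟶ X) :
    𝟙_ (Over (Spec (.of K))) ⟶ loc X (x.left (closedPoint K)) :=
  Over.homMk (Spec.map (Scheme.stalkClosedPointTo (R := .of K) x.left)) (by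
    have h : Spec.map (Scheme.stalkClosedPointTo (R := .of K) x.left) ≫
      X.left.fromSpecStalk (x.left (closedPoint K)) = x.left :=
        Scheme.Spec_stalkClosedPointTo_fromSpecStalk (R := .of K) x.left
    change _ ≫ _ ≫ X.hom = _
    rw [reassoc_of% h]
    exact Over.w x)

@[reassoc (attr := simp)]
theorem locPt_locι (X : Over (Spec (.of K))) (x : 𝟙_ _ ⟶ X) : locPt X x ≫ locι X _ = x := by
  ext1
  exact Scheme.Spec_stalkClosedPointTo_fromSpecStalk (R := .of K) x.left

theorem exists_inf_point (X : Over (Spec (.of K))) (x : 𝟙_ _ ⟶ X) (n : ℕ) :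
    ∃ i : 𝟙_ (Over (Spec (.of K))) ⟶ inf X (x.left (closedPoint K)) n, Surjective i.left ∧
      i ≫ infι X _ n = locPt X x := by
  let e := x.left (closedPoint K)
  let φ : X.left.presheaf.stalk e ⟶ .of K := Scheme.stalkClosedPointTo (R := .of K) x.left
  have hφ : IsLocalHom φ.hom := Scheme.isLocalHom_stalkClosedPointTo (R := .of K) x.left
  have hker : ∀ a ∈ (maximalIdeal (X.left.presheaf.stalk e)) ^ (n + 1), φ.hom a = 0 := by
    intro a ha
    have h1 : (maximalIdeal (X.left.presheaf.stalk e)) ^ (n + 1) ≤ RingHom.ker φ.hom := by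
      refine (Ideal.pow_le_self (by omega)).trans ?_
      intro x hx
      rw [RingHom.mem_ker]
      by_contra hne
      have : IsUnit (φ.hom x) := IsUnit.mk0 _ hne
      exact (mem_maximalIdeal _).mp hx (isUnit_of_map_unit φ.hom x this)
    exact h1 ha
  let ψ : infRing X.left e n ⟶ .of K := CommRingCat.ofHom (Ideal.Quotient.lift _ φ.hom hker)
  have hψ : infMk X.left e n ≫ ψ = φ := by ext x; rfl
  have key0 : Spec.map ψ ≫ Spec.map (infMk X.left e n) = Spec.map φ := by
    rw [← Spec.map_comp, hψ]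
  have key : Spec.map ψ ≫ Spec.map (infMk X.left e n) ≫ X.left.fromSpecStalk e = x.left := by
    rw [← Spec.map_comp_assoc, hψ]
    exact Scheme.Spec_stalkClosedPointTo_fromSpecStalk (R := .of K) x.left
  refine ⟨Over.homMk (Spec.map ψ) ?_, ?_, ?_⟩
  · have := Over.w x
    rw [← key] at this
    simpa using this
  · constructor
    intro x
    refine ⟨closedPoint K, ?_⟩
    change (PrimeSpectrum.comap ψ.hom) (closedPoint K) = x
    apply PrimeSpectrum.comap_injective_of_surjective (infMk X.left e n).hom Ideal.Quotient.mk_surjective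
    have : ∀ y : PrimeSpectrum (infRing X.left e n), PrimeSpectrum.comap (infMk X.left e n).hom y = closedPoint (X.left.presheaf.stalk e) := by
      intro y
      ext1
      have hy := (PrimeSpectrum.comap (infMk X.left e n).hom y).isPrime
      have h2 : maximalIdeal (X.left.presheaf.stalk e) ≤ (PrimeSpectrum.comap (infMk X.left e n).hom y).asIdeal := by
        apply hy.le_of_pow_le (n := n + 1)
        intro z hz
        rw [PrimeSpectrum.comap_asIdeal, Ideal.mem_comap]
        have : (infMk X.left e n).hom z = 0 := Ideal.Quotient.eq_zero_iff_mem.mpr hz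
        rw [this]
        exact Ideal.zero_mem _
      exact (le_antisymm h2 (le_maximalIdeal hy.ne_top)).symm
    rw [this, this]
  · ext1
    exact key0

theorem section_eq_zero (X : Over (Spec (.of K))) (e : X.left) [IsLocallyNoetherian X.left] (W : Over (Spec (.of K)))
    [IsAffine W.left] (s : Γ((W ⊗ loc X e).left, ⊤)) (hs : ∀ n, ((W ◁ infι X e n).left.appTop).hom s = 0) : s = 0 := by
  have hK : IsField Γ(Spec (.of K), ⊤) :=
    MulEquiv.isField (Field.toIsField K) (Scheme.ΓSpecIso (.of K)).commRingCatIsoToRingEquiv.toMulEquiv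
  have H : IsPullback (fst W (loc X e)).left (snd W (loc X e)).left W.hom (loc X e).hom := IsPullback.of_hasPullback _ _
  have H' : ∀ n, IsPullback (fst W (inf X e n)).left (snd W (inf X e n)).left W.hom (inf X e n).hom := fun n => IsPullback.of_hasPullback _ _
  refine eq_zero_of_isPushout hK (isPushout_appTop_of_flat H)
    (O' := fun n => Γ((inf X e n).left, ⊤)) (A' := fun n => Γ((W ⊗ inf X e n).left, ⊤)) (fun n => (infι X e n).left.appTop)
    (fun n => (W ◁ infι X e n).left.appTop) (f'' := fun n => (fst W (inf X e n)).left.appTop) (g'' := fun n => (snd W (inf X e n)).left.appTop)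
    ?_ ?_ ?_ ?_ s hs
  · intro n
    have := isPushout_appTop_of_flat (H' n)
    have h2 : (loc X e).hom.appTop ≫ (infι X e n).left.appTop = (inf X e n).hom.appTop := by
      rw [← Scheme.Hom.comp_appTop, Over.w]
    rw [h2]
    exact this
  · intro n
    rw [← Scheme.Hom.comp_appTop, ← Over.comp_left]
    simp
  · intro n
    rw [← Scheme.Hom.comp_appTop, ← Scheme.Hom.comp_appTop, ← Over.comp_left, ← Over.comp_left]
    simp
  · intro o ho
    have hinj : Function.Injective (Scheme.ΓSpecIso (X.left.presheaf.stalk e)).hom.hom :=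
      (ConcreteCategory.bijective_of_isIso _).1
    apply hinj
    rw [map_zero]
    have hbot : ((Scheme.ΓSpecIso (X.left.presheaf.stalk e)).hom.hom o) ∈
        (⨅ n : ℕ, (IsLocalRing.maximalIdeal (X.left.presheaf.stalk e)) ^ n) := by
      rw [Submodule.mem_iInf]
      intro n
      apply Ideal.pow_le_pow_right (Nat.le_succ n)
      rw [← Ideal.Quotient.eq_zero_iff_mem]
      have h1 := ho n
      have h2 := Scheme.ΓSpecIso_naturality (infMk X.left e n)
      have h3 := congr(($h2).hom o)
      simp only [CommRingCat.hom_comp, RingHom.comp_apply] at h3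
      have h4 : (Scheme.Hom.appTop (Spec.map (infMk X.left e n))).hom o = 0 := h1
      rw [h4, map_zero] at h3
      exact h3.symm
    rw [Ideal.iInf_pow_eq_bot_of_isLocalRing _ (IsLocalRing.maximalIdeal.isMaximal _).ne_top] at hbot
    simpa using hbot

/-- Rigidity along the local scheme of a rational point. -/
theorem loc_gen (H : Over (Spec (.of K))) (e : 𝟙_ _ ⟶ H) [CompactSpace H.left] [QuasiSeparatedSpace H.left]
    [IsIso H.hom.appTop] (X Y : Over (Spec (.of K))) [IsLocallyNoetherian X.left] [IsSeparated Y.hom]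
    (x : 𝟙_ _ ⟶ X) (y : 𝟙_ _ ⟶ Y) (a b : H ⊗ loc X (x.left (closedPoint K)) ⟶ Y)
    (ha : H ◁ locPt X x ≫ a = toUnit _ ≫ y) (hb : H ◁ locPt X x ≫ b = toUnit _ ≫ y)
    (h0 : lift (toUnit _ ≫ e) (𝟙 _) ≫ a = lift (toUnit _ ≫ e) (𝟙 _) ≫ b) : a = b := by
  let e' := x.left (closedPoint K)
  have h1 : ∀ n, (H ◁ infι X e' n) ≫ a = (H ◁ infι X e' n) ≫ b := by
    intro n
    obtain ⟨i, hi, hi'⟩ := exists_inf_point X x n
    refine rigid_gen H e (inf X e' n) (𝟙_ _) Y i y _ _ ?_ ?_ ?_
    · rw [← Category.assoc, ← MonoidalCategory.whiskerLeft_comp, hi', ha]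
    · rw [← Category.assoc, ← MonoidalCategory.whiskerLeft_comp, hi', hb]
    · have h2 : lift (toUnit (inf X e' n) ≫ e) (𝟙 _) ≫ H ◁ infι X e' n =
          infι X e' n ≫ lift (toUnit _ ≫ e) (𝟙 _) := by
        ext1
        · simp
        · simp
      rw [reassoc_of% h2, reassoc_of% h2, h0]
  ext1
  let 𝒰 := H.left.affineCover
  refine Scheme.Cover.hom_ext (𝒰.pullback₁ (fst H (loc X e')).left) _ _ ?_
  intro j
  let W : Over (Spec (.of K)) := Over.mk (𝒰.f j ≫ H.hom)
  let w : W ⟶ H := Over.homMk (𝒰.f j)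
  have hpb : IsPullback (w ▷ loc X e').left (fst W (loc X e')).left (fst H (loc X e')).left (𝒰.f j) :=
    (isPullback_whiskerRight w (loc X e')).map (Over.forget _)
  change pullback.fst (fst H (loc X e')).left (𝒰.f j) ≫ a.left = pullback.fst (fst H (loc X e')).left (𝒰.f j) ≫ b.left
  have h2 : (w ▷ loc X e').left = hpb.isoPullback.hom ≫ pullback.fst (fst H (loc X e')).left (𝒰.f j) := by
    simp
  rw [← cancel_epi hpb.isoPullback.hom, ← Category.assoc, ← Category.assoc, ← h2]
  have hW : IsAffine W.left := inferInstanceAs (IsAffine (𝒰.X j))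
  have hWV : IsAffine (W ⊗ loc X e').left := by
    have : IsAffine (pullback W.hom (loc X e').hom) := inferInstance
    exact this
  refine ext_of_affine _ _ Y.hom (by simp) (X' := fun n => (W ⊗ inf X e' n).left) (fun n => (W ◁ infι X e' n).left) ?_ ?_
  · exact fun s hs => section_eq_zero X e' W s hs
  · intro n
    have h3 : (W ◁ infι X e' n) ≫ (w ▷ loc X e') = (w ▷ _) ≫ (H ◁ infι X e' n) := by
      exact (whisker_exchange _ _)
    have h4 := congr((w ▷ _) ≫ $(h1 n))
    rw [← Category.assoc, ← Category.assoc, ← h3, Category.assoc, Category.assoc] at h4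
    have h5 := congr(($h4).left)
    simpa only [Over.comp_left] using h5

/-- An anti-affine group mapping to `G` commutes with the local scheme of `G` at the unit. -/
theorem comm_loc (H G : Over (Spec (.of K))) [GrpObj H] [GrpObj G] [CompactSpace H.left] [QuasiSeparatedSpace H.left]
    [IsIso H.hom.appTop] [LocallyOfFiniteType G.hom] (φ : H ⟶ G) [IsMonHom φ] :
    (fst H (loc G (η[G].left (closedPoint K))) ≫ φ) * (snd _ _ ≫ locι G _) =
      (snd _ _ ≫ locι G _) * (fst H _ ≫ φ) := by
  have hsep := isSeparated_hom G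
  have hnoeth : IsLocallyNoetherian G.left := LocallyOfFiniteType.isLocallyNoetherian G.hom
  rw [← mul_inv_eq_iff_eq_mul]
  have hη : locPt G η[G] ≫ locι G _ = 1 := (locPt_locι G η[G]).trans (one_eq_one _)
  refine loc_gen H η[H] G G η[G] η[G] _ _ ?_ ?_ ?_
  · simp [comp_mul, GrpObj.comp_inv, one_eq_one, hη]
  · simp [one_eq_one, hη]
  · simp [comp_mul, GrpObj.comp_inv, one_eq_one]

theorem central_of_isAlgClosed [IsAlgClosed K] (H G : Over (Spec (.of K))) [GrpObj H] [GrpObj G]
    [LocallyOfFiniteType H.hom] [QuasiCompact H.hom]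
    [IsIso H.hom.appTop] [LocallyOfFiniteType G.hom] [QuasiCompact G.hom] [ConnectedSpace G.left]
    (φ : H ⟶ G) [IsMonHom φ] :
    (fst H G ≫ φ) * snd H G = snd H G * (fst H G ≫ φ) := by
  have hnoeth : IsLocallyNoetherian H.left := LocallyOfFiniteType.isLocallyNoetherian H.hom
  have hcpt : CompactSpace H.left := QuasiCompact.compactSpace_of_compactSpace H.hom
  have := irreducibleSpace_left G
  obtain ⟨e, h⟩ : ∃ e, (fst H (loc G e) ≫ φ) * (snd _ _ ≫ locι G _) = (snd _ _ ≫ locι G _) * (fst H _ ≫ φ) :=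
    ⟨_, comm_loc H G φ⟩
  have hs := surjective_mm G e
  have h1 : (fst H (loc G e ⊗ loc G e) ≫ φ) * (snd _ _ ≫ mm G e) =
      (snd _ _ ≫ mm G e) * (fst H (loc G e ⊗ loc G e) ≫ φ) := by
    have h2 := congr((H ◁ fst (loc G e) (loc G e)) ≫ $h)
    have h3 := congr((H ◁ snd (loc G e) (loc G e)) ≫ $h)
    simp only [comp_mul, whiskerLeft_fst_assoc, whiskerLeft_snd_assoc] at h2 h3
    simp only [comp_mul]
    rw [← _root_.mul_assoc, h2, _root_.mul_assoc, h3, _root_.mul_assoc]
  have h4 : (H ◁ mm G e) ≫ ((fst H G ≫ φ) * snd H G) = (H ◁ mm G e) ≫ (snd H G * (fst H G ≫ φ)) := by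
    simpa [comp_mul] using h1
  have hepi : Epi (H ◁ mm G e) := by
    have : Flat (H ◁ mm G e).left := whiskerLeft_left_mem @Flat _ _ inferInstance
    have : Surjective (H ◁ mm G e).left := whiskerLeft_left_mem @Surjective _ _ inferInstance
    have : Epi (H ◁ mm G e).left := Flat.epi_of_flat_of_surjective _
    exact (Over.forget _).epi_of_epi_map this
  rwa [cancel_epi] at h4

end K395.Anti
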