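import Groth.Agent.Sga3.H821.ExtAffine
import Groth.Agent.VarietyB.BaseExt1
import Groth.Agent.Fdesc.GeomConn
import Groth.Agent.AlgGrp.K395.CovKit

/-!
# Properties of a quotient homomorphism deduced from its kernel

`q : G ⟶ Q` flat, surjective and quasi-compact with kernel `i : N ⟶ G`.  `of_kernel`: every property of morphisms
which is stable under base change and satisfies fpqc descent holds for `q` when it holds for `N`; geometric
connectedness likewise.
-/

set_option autoImplicit false
universe u
open CategoryTheory MonoidalCategory CartesianMonoidalCategory MonObj GrpObj AlgebraicGeometry Limits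

namespace K395.Ext

open Groth.Agent Groth.Agent.Sga3B Groth.Agent.Sga3.H739.Fpqc

section

variable {S : Scheme.{u}} {N G Q : Over S} [GrpObj G] [GrpObj Q]

/-- The kernel pair of `q` is a base change of the kernel. -/
theorem prop_kernelPair (P : MorphismProperty Scheme.{u}) [P.IsStableUnderBaseChange] [P.RespectsIso]
    (i : N ⟶ G) (q : G ⟶ Q) [IsMonHom q] (hK : AlgGrp.IsKernel i q) (hN : P N.hom) :
    P (pullback.snd q.left q.left) := by
  have h0 : P (KerGrp.kerObj q).hom := by
    let e := Sga3.H821.ExtAffine.kerIso q i hK
    have hI : IsIso e.inv.left := inferInstanceAs (IsIso ((Over.forget _).mapIso e).inv)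
    rw [← Over.w e.inv, P.cancel_left_of_respectsIso]
    exact hN
  obtain ⟨d, hd⟩ := Sga3C.KerSquare.isPullback_fst_ker q
  have h1 : P (pullback.fst q.left q.left) :=
    MorphismProperty.of_isPullback (P := P) hd.flip h0
  rw [← pullbackSymmetry_hom_comp_fst, P.cancel_left_of_respectsIso]
  exact h1

/-- A property of morphisms satisfying fpqc descent holds for a quotient homomorphism when it holds for the kernel. -/
theorem of_kernel (P : MorphismProperty Scheme.{u}) [P.IsStableUnderBaseChange] [P.RespectsIso]
    [P.DescendsAlong (@Surjective ⊓ @Flat ⊓ @QuasiCompact)]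
    (i : N ⟶ G) (q : G ⟶ Q) [IsMonHom q] (hq : Cov q) (hK : AlgGrp.IsKernel i q) (hN : P N.hom) : P q.left :=
  MorphismProperty.of_pullback_snd_of_descendsAlong
    (Q := @Surjective ⊓ @Flat ⊓ @QuasiCompact) (g := q.left)
    ⟨⟨hq.surj, hq.flat⟩, hq.qc⟩ (prop_kernelPair P i q hK hN)

/-- A surjective homomorphism with geometrically connected kernel is geometrically connected. -/
theorem geometricallyConnected_of_kernel (i : N ⟶ G) (q : G ⟶ Q) [IsMonHom q] (hq : Surjective q.left)
    (hK : AlgGrp.IsKernel i q) (hN : GeometricallyConnected N.hom) : GeometricallyConnected q.left := by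
  have := prop_kernelPair @GeometricallyConnected i q hK hN
  exact VarietyB.BaseExt1.geometricallyConnected_of_pullback_snd q.left q.left

/-- A surjective homomorphism with geometrically irreducible kernel is geometrically irreducible. -/
theorem geometricallyIrreducible_of_kernel (i : N ⟶ G) (q : G ⟶ Q) [IsMonHom q] (hq : Surjective q.left)
    (hK : AlgGrp.IsKernel i q) (hN : GeometricallyIrreducible N.hom) : GeometricallyIrreducible q.left := by
  have := prop_kernelPair @GeometricallyIrreducible i q hK hN
  exact VarietyB.BaseExt1.geometricallyIrreducible_of_pullback_snd q.left q.left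

end

variable {k : Type u} [Field k]

/-- A connected group scheme over a field is geometrically connected. -/
theorem geometricallyConnected_hom (G : Over (Spec (CommRingCat.of k))) [GrpObj G] [ConnectedSpace G.left] :
    GeometricallyConnected G.hom := by
  have h1 : (η[G] : 𝟙_ (Over (Spec (CommRingCat.of k))) ⟶ G).left ≫ G.hom = 𝟙 _ := Over.w _
  have h2 : GeometricallyConnected ((η[G] : 𝟙_ (Over (Spec (CommRingCat.of k))) ⟶ G).left ≫ G.hom) := by
    rw [h1]
    refine ⟨?_⟩
    rw [geometrically_iff_of_isClosedUnderIsomorphisms]
    intro K _ z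
    have : IsIso (pullback.snd (𝟙 (Spec (CommRingCat.of k))) z) := inferInstance
    exact (Scheme.homeoOfIso (asIso (pullback.snd (𝟙 (Spec (CommRingCat.of k))) z))).symm.surjective.connectedSpace
      (Scheme.homeoOfIso (asIso (pullback.snd (𝟙 (Spec (CommRingCat.of k))) z))).symm.continuous
  have : Nonempty (𝟙_ (Over (Spec (CommRingCat.of k)))).left :=
    inferInstanceAs (Nonempty (Spec (CommRingCat.of k)))
  exact Fdesc.GeomConn.geometricallyConnected_of_hom (f := G.hom)
    (η[G] : 𝟙_ (Over (Spec (CommRingCat.of k))) ⟶ G).left

end K395.Ext
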