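import Groth.Agent.AlgGrp.K395.Dense
import Groth.Agent.AlgGrp.K395.CovKit
import Groth.Agent.Books.AlgPts
import Groth.Agent.S3034

/-!
# Homomorphisms to smooth groups; lifting of points along surjective morphisms

* `exists_lift_point`: `K` algebraically closed, a `K`-point of the target of a surjective morphism locally of finite
  type lifts;
* `exists_image`: over a field, a quasi-compact homomorphism between groups locally of finite type is a cover followed
  by a closed immersion;
* `cov_of_surjective`: a surjective homomorphism of finite type onto a reduced group is flat.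
-/

set_option autoImplicit false
universe u
open CategoryTheory MonoidalCategory CartesianMonoidalCategory MonObj GrpObj AlgebraicGeometry Limits

namespace K395.Hom

open Groth.Agent K395.Dense Groth.Agent.Sga3.H739.Fpqc

variable {k : Type u} [Field k]

/-- Points with values in an algebraically closed field lift along surjective morphisms locally of finite type. -/
theorem exists_lift_point (K : Type u) [Field K] [Algebra k K] [IsAlgClosed K]
    {G Q : Over (Spec (CommRingCat.of k))} (q : G ⟶ Q) [Surjective q.left] [LocallyOfFiniteType q.left]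
    (x : SpK k K ⟶ Q) : ∃ g : SpK k K ⟶ G, g ≫ q = x := by
  let Y : Over (Spec (CommRingCat.of K)) := Over.mk (pullback.snd q.left x.left)
  have hY : LocallyOfFiniteType Y.hom := inferInstanceAs (LocallyOfFiniteType (pullback.snd q.left x.left))
  have hne : (Set.univ : Set Y.left).Nonempty := by
    have : Surjective (pullback.snd q.left x.left) := inferInstance
    obtain ⟨y, -⟩ := this.surj (IsLocalRing.closedPoint K)
    exact ⟨y, trivial⟩
  obtain ⟨s, -⟩ := Books.AlgPts.exists_pt_mem (X := Y) hne isClosed_univ.isLocallyClosed
  have hs : s.left ≫ pullback.snd q.left x.left = 𝟙 _ := Over.w s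
  refine ⟨Over.homMk (s.left ≫ pullback.fst q.left x.left) ?_, ?_⟩
  · rw [← Over.w q, Category.assoc, pullback.condition_assoc, ← Category.assoc, hs]
    exact (Category.id_comp _).trans (Over.w x)
  · apply Over.OverMorphism.ext
    change (s.left ≫ pullback.fst q.left x.left) ≫ q.left = x.left
    rw [Category.assoc, pullback.condition, ← Category.assoc, hs]
    exact Category.id_comp _

/-- Image factorisation of a homomorphism over a field. -/
theorem exists_image {G H : Over (Spec (CommRingCat.of k))} [GrpObj G] [GrpObj H] [LocallyOfFiniteType G.hom]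
    [QuasiCompact G.hom] [LocallyOfFiniteType H.hom] (u : G ⟶ H) [IsMonHom u] :
    ∃ (C : Over (Spec (CommRingCat.of k))) (_ : GrpObj C) (p : G ⟶ C) (i : C ⟶ H), IsMonHom p ∧ IsMonHom i ∧
      p ≫ i = u ∧ Cov p ∧ IsClosedImmersion i.left := by
  have hn : IsLocallyNoetherian H.left := LocallyOfFiniteType.isLocallyNoetherian H.hom
  have hq : QuasiCompact u.left := by
    have : QuasiCompact (u.left ≫ H.hom) := by rw [Over.w]; infer_instance
    exact QuasiCompact.of_comp u.left H.hom
  have hI : IsIntegral (𝟙_ (Over (Spec (CommRingCat.of k)))).left :=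
    inferInstanceAs (IsIntegral (Spec (CommRingCat.of k)))
  have hS : Subsingleton (𝟙_ (Over (Spec (CommRingCat.of k)))).left :=
    inferInstanceAs (Subsingleton (Spec (CommRingCat.of k)))
  obtain ⟨C, _, p, i, h1, h2, h3, h4, h5, h6, h7⟩ := S3034.result k G H u (by infer_instance)
  have h8 : QuasiCompact (p.left ≫ i.left) := by
    rw [← Over.comp_left, h3]; infer_instance
  exact ⟨C, _, p, i, h1, h2, h3, ⟨h4, h5, QuasiCompact.of_comp p.left i.left⟩, h7⟩

/-- A homomorphism whose image contains all points with values in a separably closed field, onto a smooth group, is a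
cover. -/
theorem cov_of_points (K : Type u) [Field K] [Algebra k K] {G H : Over (Spec (CommRingCat.of k))} [GrpObj G]
    [GrpObj H] [LocallyOfFiniteType G.hom] [QuasiCompact G.hom] [LocallyOfFiniteType H.hom] (u : G ⟶ H) [IsMonHom u]
    (hd : Dn k K H) (h : ∀ x : SpK k K ⟶ H, ∃ g : SpK k K ⟶ G, g ≫ u = x) : Cov u := by
  obtain ⟨C, _, p, i, h1, h2, h3, h4, h5⟩ := exists_image u
  have : IsIso i := hd C i h5 fun x => by
    obtain ⟨g, hg⟩ := h x
    exact ⟨g ≫ p, by rw [Category.assoc, h3, hg]⟩
  rw [← h3]
  exact h4.comp (Cov.of_isIso i)

/-- A surjective homomorphism of finite type onto a reduced group over a field is flat, i.e. a cover. -/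
theorem cov_of_surjective {G H : Over (Spec (CommRingCat.of k))} [GrpObj G] [GrpObj H] [LocallyOfFiniteType G.hom]
    [QuasiCompact G.hom] [LocallyOfFiniteType H.hom] (u : G ⟶ H) [IsMonHom u] [Surjective u.left]
    [IsReduced H.left] : Cov u := by
  obtain ⟨C, _, p, i, h1, h2, h3, h4, h5⟩ := exists_image u
  have hs : Surjective (p.left ≫ i.left) := by
    rw [← Over.comp_left, h3]; infer_instance
  have hs' : Surjective i.left := Surjective.of_comp p.left i.left
  have hi : IsIso i.left := isIso_of_isClosedImmersion_of_surjective i.left
  have : IsIso ((Over.forget _).map i) := hi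
  have : IsIso i := isIso_of_reflects_iso i (Over.forget _)
  rw [← h3]
  exact h4.comp (Cov.of_isIso i)

end K395.Hom
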