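import Groth.Agent.AlgGrp.K395.NormExt
import Groth.Agent.Grpsch.AmpCocycle
import Groth.Agent.S1687
import Groth.Agent.S1535
import Groth.Agent.S2821
import Groth.Agent.Dix.Cast5
import Groth.Agent.Ega1.AmpFam

/-!
# Ample modules from sections of one invertible module on a big open

`X₀ ≤ X` a big open of a normal separated noetherian integral scheme.

* `app_bijective`: `Γ(X, V) = Γ(X₀, V ∩ X₀)`;
* `exists_isAmple_of_big`: if `L` on `X₀` has sections `s_i` whose non-vanishing loci are the intersections with `X₀`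
  of the members `V i` of an affine open cover of `X`, then `X` has an ample module;
* `exists_section_compl`: a dense open with affine inclusion in a scheme with factorial local rings is the
  non-vanishing locus of a section of an invertible module.
-/

set_option autoImplicit false
universe u
open CategoryTheory CategoryTheory.Limits AlgebraicGeometry TopologicalSpace

namespace K395.BigAmple

open Groth.Agent.Fdesc.LocGen Groth.Agent.Grpsch.PicGrp NormExt

section

variable {X : Scheme.{u}} [IsIntegral X]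

/-- Naturality of the comparison with a restriction. -/
theorem ores_app {X Y : Scheme.{u}} (f : X ⟶ Y) {U V : Y.Opens} (h : V ≤ U) (a : Γ(Y, U)) :
    ores (f.preimage_mono h) (f.app U a) = f.app V (ores h a) := by
  have := f.naturality (homOfLE h).op
  exact (congr($(this) a)).symm

theorem app_injective {X₀ : X.Opens} (h₀ : Big X₀) (V : X.Opens) : Function.Injective (X₀.ι.app V) := by
  by_cases hne : (V : Set X).Nonempty
  · intro a b hab
    have hg := nonempty_inf_big h₀ hne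
    have hn1 : Nonempty (V ⊓ X₀ : X.Opens) := ⟨⟨_, hg⟩⟩
    have hn2 : Nonempty V := ⟨⟨_, hg.1⟩⟩
    have h1 : (X₀.ι ''ᵁ X₀.ι ⁻¹ᵁ V) = V ⊓ X₀ := by
      rw [Scheme.Hom.image_preimage_eq_opensRange_inf, Scheme.Opens.opensRange_ι, inf_comm]
    have hle : V ⊓ X₀ ≤ (X₀.ι ''ᵁ X₀.ι ⁻¹ᵁ V) := h1.ge
    have h2 : ∀ c : Γ(X, V), ores (inf_le_left : V ⊓ X₀ ≤ V) c = X.presheaf.map (homOfLE hle).op (X₀.ι.app V c) := by
      intro c
      rw [Scheme.Opens.ι_app]
      change (X.presheaf.map _) c = (X.presheaf.map _ ≫ X.presheaf.map _) c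
      rw [← Functor.map_comp]
      rfl
    have h3 : ores (inf_le_left : V ⊓ X₀ ≤ V) a = ores (inf_le_left : V ⊓ X₀ ≤ V) b := by rw [h2, h2, hab]
    refine Scheme.germToFunctionField_injective X V ?_
    have h4 := congrArg (X.germToFunctionField (V ⊓ X₀)) h3
    have h5 : ∀ c : Γ(X, V), X.germToFunctionField (V ⊓ X₀) (ores (inf_le_left : V ⊓ X₀ ≤ V) c) =
        X.germToFunctionField V c := fun c => X.presheaf.germ_res_apply _ _ _ _
    rwa [h5, h5] at h4
  · obtain rfl : V = ⊥ := by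
      ext y
      exact ⟨fun hy => (hne ⟨y, hy⟩).elim, fun hy => hy.elim⟩
    exact Function.injective_of_subsingleton _

theorem app_surjective [IsLocallyNoetherian X] (hX : Pi1.IsNormalScheme X) {X₀ : X.Opens} (h₀ : Big X₀) (V : X.Opens) :
    Function.Surjective (X₀.ι.app V) := by
  intro b
  have h1 : (X₀.ι ''ᵁ X₀.ι ⁻¹ᵁ V) = V ⊓ X₀ := by
    rw [Scheme.Hom.image_preimage_eq_opensRange_inf, Scheme.Opens.opensRange_ι, inf_comm]
  have hle : V ⊓ X₀ ≤ (X₀.ι ''ᵁ X₀.ι ⁻¹ᵁ V) := h1.ge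
  have hle' : (X₀.ι ''ᵁ X₀.ι ⁻¹ᵁ V) ≤ V ⊓ X₀ := h1.le
  obtain ⟨t, ht⟩ := exists_extend hX h₀ V (X.presheaf.map (homOfLE hle).op b)
  refine ⟨t, ?_⟩
  have h2 := congrArg (X.presheaf.map (homOfLE hle').op) ht
  have h3 : (X.presheaf.map (homOfLE hle').op) (X.presheaf.map (homOfLE hle).op b) = b := by
    change (X.presheaf.map _ ≫ X.presheaf.map _) b = _
    rw [← Functor.map_comp]
    exact congr($(X.presheaf.map_id _) b)
  rw [h3] at h2
  rw [← h2, Scheme.Opens.ι_app]
  change (X.presheaf.map _) t = (X.presheaf.map _ ≫ X.presheaf.map _) t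
  rw [← Functor.map_comp]
  rfl

end

variable {X : Scheme.{u}} [IsIntegral X] [IsLocallyNoetherian X] [X.IsSeparated]

/-- Affine opens are determined by their intersection with a big open. -/
theorem eq_of_preimage_eq {X₀ : X.Opens} (h₀ : Big X₀) {V W : X.Opens} (hV : IsAffineOpen V) (hW : IsAffineOpen W)
    (hne : (V : Set X).Nonempty) (hne' : (W : Set X).Nonempty) (h : X₀.ι ⁻¹ᵁ V = X₀.ι ⁻¹ᵁ W) : V = W := by
  have key : ∀ A B : X.Opens, X₀.ι ⁻¹ᵁ A = X₀.ι ⁻¹ᵁ B → A ⊓ X₀ ≤ B := by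
    intro A B hAB x hx
    have h1 : (⟨x, hx.2⟩ : X₀) ∈ X₀.ι ⁻¹ᵁ A := hx.1
    rw [hAB] at h1
    exact h1
  have := isAffineHom_ι hV
  have := isAffineHom_ι hW
  exact le_antisymm (le_of_big h₀ W hne' V (key _ _ h)) (le_of_big h₀ V hne W (key _ _ h.symm))

theorem exists_isAmple_of_big [CompactSpace X] (hX : Pi1.IsNormalScheme X) {X₀ : X.Opens} (h₀ : Big X₀)
    {L : X₀.toScheme.Modules} {ι : Type u} (V : ι → X.Opens) (hV : ∀ i, IsAffineOpen (V i))
    (hne : ∀ i, (V i : Set X).Nonempty) (hcov : ⨆ i, V i = ⊤)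
    (s : ∀ i, Coh.structureModule X₀.toScheme ⟶ L) (hs : ∀ i, CohB1.genLocus _ (s i) = X₀.ι ⁻¹ᵁ V i) :
    ∃ M : X.Modules, CohB1.IsAmple M := by
  have hgen : ∀ i, IsGen (sec (s i) (X₀.ι ⁻¹ᵁ V i)) := fun i => (le_genLocus_iff _ _).1 (hs i).ge
  have h1 : ∀ i j, ∃ a : Γ(X, V i), sec (s j) (X₀.ι ⁻¹ᵁ V i) =
      (X₀.ι.app (V i) a : Γ(X₀.toScheme, X₀.ι ⁻¹ᵁ V i)) • sec (s i) (X₀.ι ⁻¹ᵁ V i) := by
    intro i j
    obtain ⟨b, hb⟩ := (hgen i).exists_eq (sec (s j) (X₀.ι ⁻¹ᵁ V i))
    obtain ⟨a, ha⟩ := app_surjective hX h₀ (V i) b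
    exact ⟨a, by rw [ha]; exact hb⟩
  choose a ha using h1
  refine Groth.Agent.Grpsch.AmpCocycle.exists_isAmple_of_cocycle V hV hcov a (fun i => ?_) (fun i j => ?_)
    (fun _ _ _ T hi hj => ?_)
  · apply app_injective h₀
    rw [map_one]
    refine (hgen i).ext ?_
    rw [← ha i i, one_smul]
  · have h2 : X₀.ι ⁻¹ᵁ (X.basicOpen (a i j)) = X₀.ι ⁻¹ᵁ (V i ⊓ V j) := by
      rw [Scheme.preimage_basicOpen, ← genLocus_inf_eq (s j) (hgen i) (ha i j), hs j, inf_comm]
      rfl
    have hne2 : ((V i ⊓ V j : X.Opens) : Set X).Nonempty := by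
      obtain ⟨x, hx⟩ := hne i
      obtain ⟨y, hy⟩ := hne j
      exact ⟨genericPoint X, (genericPoint_specializes x).mem_open (V i).2 hx,
        (genericPoint_specializes y).mem_open (V j).2 hy⟩
    refine eq_of_preimage_eq h₀ ((hV i).basicOpen _) ((hV i).inf (hV j)) ?_ hne2 h2
    have h3 := nonempty_inf_big h₀ hne2
    have h4 : (⟨_, h3.2⟩ : X₀) ∈ X₀.ι ⁻¹ᵁ (V i ⊓ V j) := h3.1
    rw [← h2] at h4
    exact ⟨_, h4⟩
  · apply app_injective h₀
    have hT := (hgen _).res (X₀.ι.preimage_mono hi)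
    rw [res_sec] at hT
    refine hT.ext ?_
    have e1 : ∀ {i j : ι} (hi : T ≤ V i), sec (s j) (X₀.ι ⁻¹ᵁ T) =
        (X₀.ι.app T (ores hi (a i j)) : Γ(X₀.toScheme, X₀.ι ⁻¹ᵁ T)) • sec (s i) (X₀.ι ⁻¹ᵁ T) := by
      intro i j hi
      have h5 := congrArg (res L (X₀.ι.preimage_mono hi)) (ha i j)
      rw [res_smul, res_sec, res_sec, ores_app] at h5
      exact h5
    rw [← e1, map_mul, mul_comm, mul_smul, ← e1, ← e1]

open Groth.Agent.Divis.CartierBasic Groth.Agent.Divis.CartierStalk Groth.Agent.CycB.LocQuot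
  Groth.Agent.Divis.StalkPrime Groth.Agent.Divis.RadStalk in
omit [IsIntegral X] [IsLocallyNoetherian X] [X.IsSeparated] in
/-- The reduced complement of a dense open with affine inclusion is an effective Cartier divisor if the local rings
outside are factorial. -/
theorem exists_effCartier [IsNoetherian X] (U : X.Opens) [IsAffineHom U.ι] (hdense : Dense (U : Set X))
    (hufd : ∀ x : X, x ∉ U → IsDomain (X.presheaf.stalk x) ∧ UniqueFactorizationMonoid (X.presheaf.stalk x)) :
    ∃ 𝓘 : X.IdealSheafData, BlowUp.IsEffCartierIdeal 𝓘 ∧ (𝓘.support : Set X) = (U : Set X)ᶜ := by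
  let Z : Closeds X := ⟨(U : Set X)ᶜ, U.2.isClosed_compl⟩
  have hsupp : (Scheme.IdealSheafData.vanishingIdeal Z).support = Z := by
    apply Closeds.ext
    exact Scheme.IdealSheafData.coe_support_vanishingIdeal Z
  have hrad : (Scheme.IdealSheafData.vanishingIdeal Z).radical = Scheme.IdealSheafData.vanishingIdeal Z := by
    rw [← Scheme.IdealSheafData.vanishingIdeal_support, hsupp]
  refine ⟨Scheme.IdealSheafData.vanishingIdeal Z, ?_, by rw [hsupp]; rfl⟩
  apply isEffCartierIdeal_of_stalkIdeal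
  intro x hx
  have hxU : x ∉ U := by rw [hsupp] at hx; exact hx
  obtain ⟨hdom, hUF⟩ := hufd x hxU
  have hmax : ∀ (q : PrimeSpectrum (X.presheaf.stalk x)),
      q.asIdeal ∈ (stalkIdeal (Scheme.IdealSheafData.vanishingIdeal Z) x).minimalPrimes →
      q.asIdeal.height = 1 := by
    intro q hq
    have h1 : ptOf q ∉ U := by
      have h2 : ptOf q ∈ (Scheme.IdealSheafData.vanishingIdeal Z).support := by
        rw [ptOf, fromSpecStalk_mem_support_iff]; exact hq.1.2
      rw [hsupp] at h2; exact h2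
    have h3 := (Groth.Agent.S1573.result X U (ptOf q) h1 (by
      intro y hy hyq
      have h4 : y ⤳ x := hyq.trans (ptOf_specializes _)
      have h5 : ptOf (primeOf h4) ∈ (Scheme.IdealSheafData.vanishingIdeal Z).support := by
        rw [ptOf_primeOf, hsupp]; exact hy
      rw [ptOf, fromSpecStalk_mem_support_iff] at h5
      have h6 : ptOf (primeOf h4) ⤳ ptOf q := by rw [ptOf_primeOf]; exact hyq
      rw [ptOf_specializes_iff] at h6
      have h7 : primeOf h4 = q := le_antisymm h6 (hq.2 ⟨(primeOf h4).isPrime, h5⟩ h6)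
      rw [← ptOf_primeOf h4, h7])).2 hdense
    rw [height_eq] at h3
    exact_mod_cast h3
  have hne : stalkIdeal (Scheme.IdealSheafData.vanishingIdeal Z) x ≠ ⊥ := by
    intro hbot
    have h1 := hmax ⟨⊥, Ideal.isPrime_bot⟩ (by
      have : (⊥ : Ideal (X.presheaf.stalk x)).IsPrime := Ideal.isPrime_bot
      rw [hbot, Ideal.minimalPrimes_eq_subsingleton_self]; rfl)
    rw [Ideal.height_bot] at h1
    exact zero_ne_one h1
  have hprinc : (stalkIdeal (Scheme.IdealSheafData.vanishingIdeal Z) x).IsPrincipal := by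
    refine Groth.Agent.Divis.UfdIdeal.isPrincipal_of_assoc_principal _ hne ?_
    intro p hp a ha
    apply UniqueFactorizationMonoid.isPrincipal_of_height_eq_one
    exact hmax ⟨p, hp⟩ (mem_minimalPrimes_of_colon _ (stalkIdeal_isRadical _ hrad x) p a ha)
  obtain ⟨g, hg⟩ := hprinc
  refine ⟨g, mem_nonZeroDivisors_of_ne_zero ?_, hg⟩
  rintro rfl
  exact hne (by rw [hg]; simp)

omit [IsIntegral X] [IsLocallyNoetherian X] [X.IsSeparated] in
/-- A dense open with affine inclusion, with factorial local rings outside, is the non-vanishing locus of a section of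
an invertible module. -/
theorem exists_section_compl [IsNoetherian X] (U : X.Opens) [IsAffineHom U.ι] (hdense : Dense (U : Set X))
    (hufd : ∀ x : X, x ∉ U → IsDomain (X.presheaf.stalk x) ∧ UniqueFactorizationMonoid (X.presheaf.stalk x)) :
    ∃ (L : X.Modules) (s : Coh.structureModule X ⟶ L), PicF.IsInvertible L ∧ CohB1.genLocus L s = U := by
  obtain ⟨D, hD, hsupp⟩ := exists_effCartier U hdense hufd
  obtain ⟨s, hs⟩ := Groth.Agent.Dix.Cast5.exists_section D.subschemeι (by
    rw [Scheme.IdealSheafData.ker_subschemeι]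
    exact hD)
  refine ⟨_, s, isInvertible_dual (Groth.Agent.Dix.IdealModCartier.isInvertible_idealMod (by
    rw [Scheme.IdealSheafData.ker_subschemeι]
    exact hD)), ?_⟩
  apply Opens.ext
  rw [hs, Scheme.IdealSheafData.range_subschemeι, hsupp, compl_compl]

end K395.BigAmple
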