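import Mathlib.LinearAlgebra.LinearIndependent.Defs
import Mathlib.FieldTheory.Fixed
import Mathlib.LinearAlgebra.Dual.Lemmas
import Mathlib.LinearAlgebra.Finsupp.LinearCombination

/-!
# Independence of characters in vector valued form

`Γ` a monoid, `κ : M → (Γ →* k)` injective, `k` a field.

* `exists_coeff`: the coordinates of `∑ κ_m(t) w_m` are linear combinations of the values;
* `eq_of_forall`: the family `w` is determined by the function `t ↦ ∑ κ_m(t) w_m`;
* `card_support_eq`: multiplying by a character and translating does not change the number of nonzero coefficients.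
-/

set_option autoImplicit false

namespace K395.CharInd

variable {k Γ M : Type*} [Field k] [Monoid Γ] (κ : M → (Γ →* k))

open scoped Classical in
theorem exists_coeff (hκ : Function.Injective κ) (E : Finset M) (m : M) (hm : m ∈ E) :
    ∃ c : Γ →₀ k, ∀ m' ∈ E, (c.sum fun t a => a * κ m' t) = if m' = m then 1 else 0 := by
  let ev : Γ → (E → k) := fun t m' => κ m' t
  have hspan : Submodule.span k (Set.range ev) = ⊤ := by
    by_contra hne
    obtain ⟨f, hf, hle⟩ := Submodule.exists_le_ker_of_lt_top _ (lt_top_iff_ne_top.2 hne)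
    have hli : LinearIndependent k (fun m' : E => (κ m' : Γ → k)) :=
      (linearIndependent_monoidHom Γ k).comp (fun m' : E => κ m') (hκ.comp Subtype.val_injective)
    rw [Fintype.linearIndependent_iff] at hli
    apply hf
    have h1 := hli (fun m' => f (Pi.single m' 1)) (by
      funext t
      have h2 : f (ev t) = 0 := hle (Submodule.subset_span ⟨t, rfl⟩)
      rw [Finset.sum_apply, Pi.zero_apply, ← h2]
      have h3 : ev t = ∑ m' : E, κ m' t • (Pi.single m' 1 : E → k) := by
        funext m''
        simp [ev, Finset.sum_apply, Pi.single_apply]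
      rw [h3, map_sum]
      refine Finset.sum_congr rfl fun m' _ => ?_
      rw [map_smul, Pi.smul_apply, smul_eq_mul, smul_eq_mul, mul_comm])
    refine LinearMap.pi_ext' fun i => LinearMap.ext_ring ?_
    exact h1 i
  have hx : (Pi.single ⟨m, hm⟩ 1 : E → k) ∈ Submodule.span k (Set.range ev) := by rw [hspan]; trivial
  obtain ⟨c, hc⟩ := (Finsupp.mem_span_range_iff_exists_finsupp).1 hx
  refine ⟨c, fun m' hm' => ?_⟩
  have h4 := congrFun hc ⟨m', hm'⟩
  rw [Finsupp.sum, Finset.sum_apply] at h4
  rw [Finsupp.sum]
  refine h4.trans ?_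
  rw [Pi.single_apply]
  simp [Subtype.ext_iff]

variable {V : Type*} [AddCommGroup V] [Module k V]

theorem comp_eq (hκ : Function.Injective κ) (E : Finset M) (w : M → V) (m : M) (hm : m ∈ E) :
    ∃ c : Γ →₀ k, w m = c.sum fun t a => a • ∑ m' ∈ E, κ m' t • w m' := by
  classical
  obtain ⟨c, hc⟩ := exists_coeff κ hκ E m hm
  refine ⟨c, ?_⟩
  have h1 : (c.sum fun t a => a • ∑ m' ∈ E, κ m' t • w m') = ∑ m' ∈ E, (c.sum fun t a => a * κ m' t) • w m' := by
    simp_rw [Finsupp.sum, Finset.smul_sum, Finset.sum_smul]
    rw [Finset.sum_comm]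
    refine Finset.sum_congr rfl fun m' _ => Finset.sum_congr rfl fun t _ => ?_
    rw [smul_smul]
  rw [h1, Finset.sum_congr rfl fun m' hm' => by rw [hc m' hm']]
  simp [hm]

theorem eq_of_forall (hκ : Function.Injective κ) (E : Finset M) (w w' : M → V)
    (h : ∀ t, ∑ m ∈ E, κ m t • w m = ∑ m ∈ E, κ m t • w' m) (m : M) (hm : m ∈ E) : w m = w' m := by
  obtain ⟨c, hc⟩ := comp_eq κ hκ E (fun m => w m - w' m) m hm
  have h2 : ∀ t, ∑ m' ∈ E, κ m' t • (w m' - w' m') = 0 := fun t => by
    simp_rw [smul_sub]
    rw [Finset.sum_sub_distrib, h t, sub_self]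
  simp_rw [h2, smul_zero] at hc
  rw [Finsupp.sum, Finset.sum_const_zero] at hc
  exact sub_eq_zero.1 hc

/-- Finitely supported families are determined by the associated functions. -/
theorem finsupp_ext (hκ : Function.Injective κ) (a b : M →₀ k)
    (h : ∀ t, (a.sum fun m c => c * κ m t) = b.sum fun m c => c * κ m t) : a = b := by
  classical
  have h1 : ∀ (x : M →₀ k) (t : Γ), x.support ⊆ a.support ∪ b.support →
      (x.sum fun m c => c * κ m t) = ∑ m ∈ a.support ∪ b.support, κ m t • x m := by
    intro x t hx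
    rw [Finsupp.sum_of_support_subset x hx _ (fun m _ => by rw [zero_mul])]
    refine Finset.sum_congr rfl fun m _ => ?_
    rw [smul_eq_mul, mul_comm]
  ext m
  by_cases hm : m ∈ a.support ∪ b.support
  · refine eq_of_forall κ hκ (a.support ∪ b.support) a b (fun t => ?_) m hm
    rw [← h1 a t Finset.subset_union_left, ← h1 b t Finset.subset_union_right, h t]
  · rw [Finset.mem_union, not_or, Finsupp.notMem_support_iff, Finsupp.notMem_support_iff] at hm
    rw [hm.1, hm.2]

theorem card_support_eq [Mul M] [IsLeftCancelMul M] (hκ : Function.Injective κ)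
    (hmul : ∀ m m' t, κ (m * m') t = κ m t * κ m' t)
    (h0 : ∀ m t, κ m t ≠ 0) (a b : M →₀ k) (c : k) (hc : c ≠ 0) (d : M) (t₀ : Γ)
    (h : ∀ t, (a.sum fun m x => x * κ m t) = c * κ d t * b.sum fun m x => x * κ m (t * t₀)) :
    a.support.card = b.support.card := by
  classical
  let b' : M →₀ k := Finsupp.onFinset b.support (fun m => c * b m * κ m t₀) (fun m hm => by
    rw [Finsupp.mem_support_iff]
    rintro h1
    exact hm (by rw [h1, mul_zero, zero_mul]))
  have hb' : b'.support = b.support := by
    ext m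
    rw [Finsupp.mem_support_iff, Finsupp.mem_support_iff]
    change c * b m * κ m t₀ ≠ 0 ↔ _
    refine ⟨fun h1 h2 => h1 (by rw [h2, mul_zero, zero_mul]), fun h1 => mul_ne_zero (mul_ne_zero hc h1) (h0 m t₀)⟩
  have ha : a = b'.mapDomain (d * ·) := by
    refine finsupp_ext κ hκ _ _ fun t => ?_
    rw [h t, Finsupp.sum_mapDomain_index (fun _ => zero_mul _) (fun _ _ _ => add_mul _ _ _),
      Finsupp.sum_of_support_subset b' hb'.le _ (fun m _ => by rw [zero_mul]), Finsupp.sum, Finset.mul_sum]
    refine Finset.sum_congr rfl fun m _ => ?_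
    rw [hmul, map_mul]
    change _ = c * b m * κ m t₀ * _
    ring
  rw [ha, Finsupp.mapDomain_support_of_injective (mul_right_injective d),
    Finset.card_image_of_injective _ (mul_right_injective d), hb']

end K395.CharInd
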