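import Groth.Agent.Sga7.H515.SepPoint
import Groth.Agent.Flat2B.SmoothGeom
import Groth.Agent.Books.AntiAffine
import Groth.Agent.AlgGrp.K395.Pts
import Mathlib.FieldTheory.IsSepClosed

/-!
# Density of `K`-points

`k ⊆ K` fields, `K` separably closed.  `SpK k K` is `Spec K` as a `k`-scheme.  `isIso_of_points`: a closed subscheme
of a smooth `k`-scheme through which all `K`-points factor is everything.  `eq_of_points`, `exists_factor_of_points`:
morphisms from a smooth `k`-scheme to a separated one agree (factor through a closed subscheme) if they do on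
`K`-points.  `Dn k K X`: schematic density of the `K`-points (no hypothesis on `K`), with the same consequences.
-/

set_option autoImplicit false
universe u
open CategoryTheory MonoidalCategory CartesianMonoidalCategory MonObj GrpObj AlgebraicGeometry Limits

namespace K395.Dense

open Groth.Agent

variable (k K : Type u) [Field k] [Field K] [Algebra k K]

/-- `Spec K` as a `k`-scheme. -/
noncomputable abbrev SpK : Over (Spec (CommRingCat.of k)) :=
  Over.mk (Spec.map (CommRingCat.ofHom (algebraMap k K)))

/-- The `K`-points of `X` are schematically dense. -/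
def Dn (X : Over (Spec (CommRingCat.of k))) : Prop :=
  ∀ (Z : Over (Spec (CommRingCat.of k))) (c : Z ⟶ X), IsClosedImmersion c.left →
    (∀ x : SpK k K ⟶ X, ∃ z : SpK k K ⟶ Z, z ≫ c = x) → IsIso c

variable {k K}

/-- Two morphisms to a separated scheme which agree on `K`-points are equal, when the `K`-points are dense. -/
theorem Dn.eq {X Y : Over (Spec (CommRingCat.of k))} (hX : Dn k K X) [IsSeparated Y.hom] (α β : X ⟶ Y)
    (h : ∀ x : SpK k K ⟶ X, x ≫ α = x ≫ β) : α = β := by
  have h1 : IsIso (equalizer.ι α β) :=
    hX _ (equalizer.ι α β) inferInstance fun x => ⟨equalizer.lift x (h x), equalizer.lift_ι _ _⟩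
  rw [← cancel_epi (equalizer.ι α β), equalizer.condition]

/-- A morphism which maps `K`-points into a closed subscheme factors through it, when the `K`-points are dense. -/
theorem Dn.exists_factor {X Y Z : Over (Spec (CommRingCat.of k))} (hX : Dn k K X) (α : X ⟶ Y) (i : Z ⟶ Y)
    [IsClosedImmersion i.left] (h : ∀ x : SpK k K ⟶ X, ∃ z : SpK k K ⟶ Z, z ≫ i = x ≫ α) :
    ∃ β : X ⟶ Z, β ≫ i = α := by
  have h0 : IsPullback (pullback.fst α i).left (pullback.snd α i).left α.left i.left :=
    (IsPullback.of_hasPullback α i).map (Over.forget _)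
  have h2 : IsClosedImmersion (pullback.fst α i).left :=
    MorphismProperty.of_isPullback h0.flip ‹_›
  have h1 : IsIso (pullback.fst α i) :=
    hX _ (pullback.fst α i) h2 fun x => by
      obtain ⟨z, hz⟩ := h x
      exact ⟨pullback.lift x z hz.symm, pullback.lift_fst _ _ _⟩
  refine ⟨inv (pullback.fst α i) ≫ pullback.snd α i, ?_⟩
  rw [Category.assoc, ← pullback.condition, IsIso.inv_hom_id_assoc]

variable (K) in
/-- The points of a smooth scheme with values in a separably closed field are dense. -/
theorem dn_of_smooth [IsSepClosed K] (X : Over (Spec (CommRingCat.of k))) [Smooth X.hom] : Dn k K X := by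
  intro Z c hc h
  have hred : IsReduced X.left := Flat2B.SmoothGeom.isReduced_of_smooth X.hom
  have hs : Surjective c.left := by
    by_contra hns
    have hU : IsOpen (Set.range c.left)ᶜ := c.left.isClosedEmbedding.isClosed_range.isOpen_compl
    let U : X.left.Opens := ⟨(Set.range c.left)ᶜ, hU⟩
    have hne : Nonempty U := by
      by_contra hemp
      apply hns
      refine ⟨fun x => ?_⟩
      by_contra hx
      exact hemp ⟨⟨x, hx⟩⟩
    have hsm : Smooth (U.ι ≫ X.hom) := inferInstance
    obtain ⟨K₁, _, _, _, _, s, hs⟩ := Sga7.H515.SepPoint.exists_point (U.ι ≫ X.hom)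
    let φ : K₁ →ₐ[k] K := IsSepClosed.lift
    have hw : (Spec.map (CommRingCat.ofHom φ.toRingHom) ≫ s ≫ U.ι) ≫ X.hom =
        Spec.map (CommRingCat.ofHom (algebraMap k K)) := by
      rw [Category.assoc, Category.assoc, hs, ← Spec.map_comp, ← CommRingCat.ofHom_comp]
      congr 2
      exact φ.comp_algebraMap
    let x : SpK k K ⟶ X := Over.homMk (Spec.map (CommRingCat.ofHom φ.toRingHom) ≫ s ≫ U.ι) hw
    obtain ⟨z, hz⟩ := h x
    have h1 : x.left (IsLocalRing.closedPoint K) ∈ U := by
      change (Spec.map (CommRingCat.ofHom φ.toRingHom) ≫ s ≫ U.ι) (IsLocalRing.closedPoint K) ∈ U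
      rw [Scheme.Hom.comp_apply, Scheme.Hom.comp_apply]
      exact ((s ((Spec.map (CommRingCat.ofHom φ.toRingHom)) (IsLocalRing.closedPoint K))) : U).2
    apply h1
    refine ⟨z.left (IsLocalRing.closedPoint K), ?_⟩
    rw [← Scheme.Hom.comp_apply, ← Over.comp_left, hz]
  have h1 : IsIso c.left := isIso_of_isClosedImmersion_of_surjective c.left
  have : IsIso ((Over.forget _).map c) := h1
  exact isIso_of_reflects_iso c (Over.forget _)

theorem isSeparated_hom (G : Over (Spec (CommRingCat.of k))) [GrpObj G] : IsSeparated G.hom :=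
  Books.AntiAffine.isSeparated_hom G

instance smooth_tensor (X Y : Over (Spec (CommRingCat.of k))) [Smooth X.hom] [Smooth Y.hom] :
    Smooth (X ⊗ Y).hom := by
  have : (X ⊗ Y).hom = pullback.fst X.hom Y.hom ≫ X.hom := rfl
  rw [this]
  infer_instance

end K395.Dense
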