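import Groth.Agent.AlgGrp.K395.Act
import Groth.Agent.AbVar.K528.RedClosed
import Groth.Agent.EqInt.K957.Restr
import Groth.Agent.EqInt.K957.Pts
import Groth.Agent.EqInt.K957.Cart
import Groth.Agent.EqInt.K957.Diag

/-!
# Actions on closures

An action on a dense subscheme extends to the closure as soon as the ambient morphism exists.
-/

set_option autoImplicit false
universe u
open CategoryTheory CategoryTheory.Limits AlgebraicGeometry TopologicalSpace MonoidalCategory
  CartesianMonoidalCategory MonObj GrpObj

namespace K395.EqClos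

section general

variable {S : Scheme.{u}}

/-- Base change of a dominant morphism along a universally open projection. -/
theorem isDominant_whisker (G : Over S) {U Z : Over S} (t : U ⟶ Z) [UniversallyOpen G.hom] [IsDominant t.left] :
    IsDominant (G ◁ t).left := by
  refine ⟨?_⟩
  have h1 : UniversallyOpen (snd G Z).left := Act.snd_mem @UniversallyOpen G Z ‹_›
  have h2 : IsOpenMap (snd G Z).left := (snd G Z).left.isOpenMap
  refine (t.left.denseRange.preimage h2).mono ?_
  rintro z ⟨u, hu⟩
  obtain ⟨w, hw, -⟩ := Scheme.exists_preimage_of_isPullback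
    (K957.Pts.isPullback_left (K957.Diag.isPullback_whisker G t)) z u hu.symm
  exact ⟨w, hw⟩

/-- Factorization through a closed subscheme, tested on a dominant morphism. -/
theorem exists_factor {W W' Y Z : Over S} [IsReduced W.left] (d : W' ⟶ W) [IsDominant d.left] (β : W ⟶ Y)
    (i : Z ⟶ Y) [IsClosedImmersion i.left] (e : W' ⟶ Z) (h : d ≫ β = e ≫ i) : ∃ γ : W ⟶ Z, γ ≫ i = β := by
  have h0 : IsPullback (pullback.fst β i).left (pullback.snd β i).left β.left i.left :=
    (IsPullback.of_hasPullback β i).map (Over.forget _)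
  have h2 : IsClosedImmersion (pullback.fst β i).left :=
    MorphismProperty.of_isPullback h0.flip ‹_›
  have h3 : Surjective (pullback.fst β i).left := by
    have : pullback.lift d e h ≫ pullback.fst β i = d := pullback.lift_fst _ _ _
    have h4 : IsDominant (pullback.fst β i).left := by
      have : IsDominant ((pullback.lift d e h).left ≫ (pullback.fst β i).left) := by
        rw [← Over.comp_left, this]; infer_instance
      exact IsDominant.of_comp (pullback.lift d e h).left _
    exact surjective_of_isDominant_of_isClosed_range _ (pullback.fst β i).left.isClosedEmbedding.isClosed_range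
  have h5 : IsIso (pullback.fst β i).left := isIso_of_isClosedImmersion_of_surjective _
  have h6 : IsIso (pullback.fst β i) := by
    have : IsIso ((Over.forget S).map (pullback.fst β i)) := h5
    exact isIso_of_reflects_iso _ (Over.forget S)
  exact ⟨inv (pullback.fst β i) ≫ pullback.snd β i, by
    rw [Category.assoc, ← pullback.condition, IsIso.inv_hom_id_assoc]⟩

/-- Equality of morphisms tested on a dominant morphism. -/
theorem hom_ext {W W' Y : Over S} [IsReduced W.left] [IsSeparated Y.hom] (d : W' ⟶ W) [IsDominant d.left]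
    {f g : W ⟶ Y} (h : d ≫ f = d ≫ g) : f = g :=
  Over.OverMorphism.ext (ext_of_isDominant_of_isSeparated Y.hom (by rw [Over.w, Over.w]) d.left
    (congrArg CommaMorphism.left h))

end general

variable {k : Type u} [Field k] [IsAlgClosed k] {G U Z Y : Over (Spec (CommRingCat.of k))} [GrpObj G]

/-- The action on a closure. -/
theorem exists_action [IsReduced G.left] [LocallyOfFiniteType G.hom] [IsReduced Z.left]
    [LocallyOfFiniteType Z.hom] [IsSeparated Z.hom]
    (b : AlgGrp.Action G U) (t : U ⟶ Z) [IsDominant t.left] (i : Z ⟶ Y) [IsClosedImmersion i.left]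
    (n : G ⊗ Z ⟶ Y) (h : (G ◁ t) ≫ n = b.act ≫ t ≫ i) :
    ∃ c : AlgGrp.Action G Z, c.act ≫ i = n ∧ AlgGrp.Action.IsEquivariant b c t := by
  have hUO : UniversallyOpen G.hom := inferInstance
  have hUO2 : UniversallyOpen (G ⊗ G).hom := by
    have h1 : UniversallyOpen (snd G G).left := Act.snd_mem @UniversallyOpen G G hUO
    rw [← Over.w (snd G G)]
    infer_instance
  have hr : IsReduced (G ⊗ Z).left := K528.RedClosed.isReduced_tensor G Z
  have hft : LocallyOfFiniteType (G ⊗ G).hom := K528.RedClosed.locallyOfFiniteType_tensor G G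
  have hr1 : IsReduced (G ⊗ G).left := K528.RedClosed.isReduced_tensor G G
  have hr2 : IsReduced ((G ⊗ G) ⊗ Z).left := K528.RedClosed.isReduced_tensor (G ⊗ G) Z
  have hd := isDominant_whisker G t
  have hd2 := isDominant_whisker (G ⊗ G) t
  obtain ⟨γ, hγ⟩ := exists_factor (G ◁ t) n i (b.act ≫ t) (by rw [h, Category.assoc])
  have hmono : Mono i := Over.mono_of_mono_left _
  have hγt : (G ◁ t) ≫ γ = b.act ≫ t := by
    rw [← cancel_mono i, Category.assoc, hγ, h, Category.assoc]
  have h1 : (η[G] ▷ Z) ≫ γ = (λ_ Z).hom := by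
    have hd3 : IsDominant (𝟙_ (Over (Spec (CommRingCat.of k))) ◁ t).left :=
      haveI : UniversallyOpen (𝟙_ (Over (Spec (CommRingCat.of k)))).hom :=
        inferInstanceAs (UniversallyOpen (𝟙 (Spec (CommRingCat.of k))))
      isDominant_whisker _ t
    have hr3 : IsReduced (𝟙_ (Over (Spec (CommRingCat.of k))) ⊗ Z).left := by
      have : IsIso ((λ_ Z).hom).left := inferInstanceAs (IsIso ((Over.forget _).map (λ_ Z).hom))
      exact isReduced_of_isOpenImmersion ((λ_ Z).hom).left
    refine hom_ext (𝟙_ (Over (Spec (CommRingCat.of k))) ◁ t) ?_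
    rw [whisker_exchange_assoc, hγt, ← Category.assoc, b.one_act, leftUnitor_naturality]
  have h2 : (μ[G] ▷ Z) ≫ γ = (α_ G G Z).hom ≫ (G ◁ γ) ≫ γ := by
    refine hom_ext ((G ⊗ G) ◁ t) ?_
    rw [whisker_exchange_assoc, hγt, ← Category.assoc, b.mul_act, Category.assoc, Category.assoc,
      ← hγt, ← MonoidalCategory.whiskerLeft_comp_assoc, ← hγt, MonoidalCategory.whiskerLeft_comp_assoc,
      ← associator_naturality_right_assoc]
  exact ⟨⟨γ, h1, h2⟩, hγ, hγt.symm⟩

end K395.EqClos
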