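import Groth.Agent.AlgGrp.K395.EqClos
import Groth.Agent.EqInt.K957.Invt
import Groth.Agent.EqInt.K957.Bundle
import Groth.Agent.CycB.ImageInt

/-!
# Equivariant closure of a graph
-/

set_option autoImplicit false
universe u
open CategoryTheory CategoryTheory.Limits AlgebraicGeometry TopologicalSpace MonoidalCategory
  CartesianMonoidalCategory MonObj GrpObj

namespace K395.EqGraph

open K957.Restr K957.Pts K957.Invt EqClos

variable {k : Type u} [Field k] [IsAlgClosed k] {G X P : Over (Spec (CommRingCat.of k))} [GrpObj G]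

theorem exists_closure [IsReduced G.left] [LocallyOfFiniteType G.hom] [IsIntegral X.left] [IsSeparated X.hom]
    [LocallyOfFiniteType X.hom] [QuasiCompact X.hom] [IsSeparated P.hom] [LocallyOfFiniteType P.hom]
    (a : AlgGrp.Action G X) (W : X.left.Opens)
    (hW : a.act.left ⁻¹ᵁ W = (snd G X).left ⁻¹ᵁ W) (hne : (W : Set X.left).Nonempty) (j : XU W ⟶ P)
    (m : G ⊗ P ⟶ P) (hm : (restrict a W hW).act ≫ j = (G ◁ j) ≫ m) :
    ∃ (Z : Over (Spec (CommRingCat.of k))) (c : AlgGrp.Action G Z) (g : Z ⟶ X) (q : Z ⟶ P) (t : XU W ⟶ Z),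
      IsIntegral Z.left ∧ IsClosedImmersion (lift g q).left ∧ t ≫ g = iU W ∧ t ≫ q = j ∧ IsDominant t.left ∧
      AlgGrp.Action.IsEquivariant c a g ∧ c.act ≫ q = (G ◁ q) ≫ m := by
  have hN : IsLocallyNoetherian X.left := LocallyOfFiniteType.isLocallyNoetherian X.hom
  have hC : CompactSpace X.left := QuasiCompact.compactSpace_of_compactSpace X.hom
  have : IsNoetherian X.left := {}
  have : Nonempty W := hne.to_subtype
  have hint : IsIntegral (XU W).left := inferInstanceAs (IsIntegral W.toScheme)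
  have hqW : QuasiCompact (XU W).hom := inferInstanceAs (QuasiCompact (W.ι ≫ X.hom))
  have hsP : IsSeparated (X ⊗ P).hom := by
    have : IsSeparated (fst X P).left := Act.fst_mem @IsSeparated X P ‹_›
    rw [← Over.w (fst X P)]; infer_instance
  have hlP : LocallyOfFiniteType (X ⊗ P).hom := K528.RedClosed.locallyOfFiniteType_tensor X P
  let Γ : XU W ⟶ X ⊗ P := lift (iU W) j
  have hqΓ : QuasiCompact Γ.left := K957.Bundle.quasiCompact_left Γ
  have hZi : IsIntegral Γ.left.image := Groth.Agent.CycB.ImageInt.isIntegral_image Γ.left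
  let Z : Over (Spec (CommRingCat.of k)) := Over.mk (Γ.left.imageι ≫ (X ⊗ P).hom)
  let i : Z ⟶ X ⊗ P := Over.homMk Γ.left.imageι rfl
  let t : XU W ⟶ Z := Over.homMk Γ.left.toImage (by
    change Γ.left.toImage ≫ Γ.left.imageι ≫ (X ⊗ P).hom = _
    rw [Scheme.Hom.toImage_imageι_assoc, Over.w])
  have hti : t ≫ i = Γ := Over.OverMorphism.ext Γ.left.toImage_imageι
  have hZI : IsIntegral Z.left := hZi
  have hic : IsClosedImmersion i.left := inferInstanceAs (IsClosedImmersion Γ.left.imageι)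
  have htd : IsDominant t.left := inferInstanceAs (IsDominant Γ.left.toImage)
  have hZl : LocallyOfFiniteType Z.hom := inferInstanceAs (LocallyOfFiniteType (Γ.left.imageι ≫ (X ⊗ P).hom))
  have hZs : IsSeparated Z.hom := inferInstanceAs (IsSeparated (Γ.left.imageι ≫ (X ⊗ P).hom))
  let g : Z ⟶ X := i ≫ fst X P
  let q : Z ⟶ P := i ≫ snd X P
  have htg : t ≫ g = iU W := by
    change t ≫ i ≫ fst X P = _
    rw [← Category.assoc, hti, lift_fst]
  have htq : t ≫ q = j := by
    change t ≫ i ≫ snd X P = _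
    rw [← Category.assoc, hti, lift_snd]
  have hgq : lift g q = i := by
    change lift (i ≫ fst X P) (i ≫ snd X P) = i
    rw [lift_comp_fst_snd]
  obtain ⟨c, hc1, hc2⟩ := exists_action (restrict a W hW) t i (lift ((G ◁ g) ≫ a.act) ((G ◁ q) ≫ m)) (by
    rw [comp_lift, ← MonoidalCategory.whiskerLeft_comp_assoc, ← MonoidalCategory.whiskerLeft_comp_assoc, htg, htq,
      hti, comp_lift, restrict_act_i, hm])
  refine ⟨Z, c, g, q, t, hZI, by rw [hgq]; exact hic, htg, htq, htd, ?_, ?_⟩
  · change c.act ≫ i ≫ fst X P = _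
    rw [← Category.assoc, hc1, lift_fst]
  · change c.act ≫ i ≫ snd X P = _
    rw [← Category.assoc, hc1, lift_snd]

omit [IsAlgClosed k] in
/-- The closure of a graph over the domain of definition. -/
theorem agree {Z : Over (Spec (CommRingCat.of k))} [IsReduced Z.left] [IsSeparated P.hom] {g : Z ⟶ X} {q : Z ⟶ P}
    {W : X.left.Opens} {t : XU W ⟶ Z} {j : XU W ⟶ P} [IsDominant t.left] (htg : t ≫ g = iU W) (htq : t ≫ q = j) :
    iU (g.left ⁻¹ᵁ W) ≫ q = resOver g W ≫ j := by
  let t' : XU W ⟶ XU (g.left ⁻¹ᵁ W) := (isPullback_resOver g W).lift t (𝟙 _) (by rw [htg, Category.id_comp])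
  have h1 : t' ≫ iU _ = t := (isPullback_resOver g W).lift_fst _ _ _
  have h2 : t' ≫ resOver g W = 𝟙 _ := (isPullback_resOver g W).lift_snd _ _ _
  have hd : IsDominant t'.left := by
    have : IsDominant (t'.left ≫ (iU (g.left ⁻¹ᵁ W)).left) := by
      rw [← Over.comp_left, h1]; infer_instance
    exact IsDominant.of_comp_of_isOpenImmersion _ (iU (g.left ⁻¹ᵁ W)).left
  have hr : IsReduced (XU (g.left ⁻¹ᵁ W)).left := inferInstanceAs (IsReduced (g.left ⁻¹ᵁ W).toScheme)
  refine hom_ext t' ?_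
  rw [reassoc_of% h1, reassoc_of% h2, htq]

omit [IsAlgClosed k] in
theorem isIso_restrict {Z : Over (Spec (CommRingCat.of k))} [IsReduced Z.left] [IsSeparated P.hom] {g : Z ⟶ X} {q : Z ⟶ P}
    {W : X.left.Opens} {t : XU W ⟶ Z} {j : XU W ⟶ P} [IsDominant t.left] (htg : t ≫ g = iU W) (htq : t ≫ q = j)
    [Mono (lift g q)] : IsIso (g.left ∣_ W) := by
  have ha := agree htg htq
  let t' : XU W ⟶ XU (g.left ⁻¹ᵁ W) := (isPullback_resOver g W).lift t (𝟙 _) (by rw [htg, Category.id_comp])
  have h1 : t' ≫ iU _ = t := (isPullback_resOver g W).lift_fst _ _ _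
  have h2 : t' ≫ resOver g W = 𝟙 _ := (isPullback_resOver g W).lift_snd _ _ _
  have h3 : resOver g W ≫ t = iU _ := by
    rw [← cancel_mono (lift g q), comp_lift, comp_lift, Category.assoc, Category.assoc, htg, htq, ha,
      (isPullback_resOver g W).w]
  have h4 : resOver g W ≫ t' = 𝟙 _ := by
    rw [← cancel_mono (iU (g.left ⁻¹ᵁ W)), Category.assoc, h1, h3, Category.id_comp]
  have : IsIso (resOver g W) := ⟨t', h4, h2⟩
  exact inferInstanceAs (IsIso ((Over.forget _).map (resOver g W)))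

end K395.EqGraph
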