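import Groth.Agent.Ega1.AmpFam

/-!
# Local equations of a section of an invertible module along a morphism

`IsLocEq f s U F`: the function `F` on `U ⊆ Y` is a local equation of the pullback of `s : O ⟶ L` along `f : Y ⟶ Z`.
-/

set_option autoImplicit false
universe u
open CategoryTheory CategoryTheory.Limits AlgebraicGeometry TopologicalSpace

namespace K395.LocEq

open Groth.Agent.Fdesc.LocGen

variable {Y' Y Z : Scheme.{u}} {L : Z.Modules}

/-- `F` is a local equation of the pullback of `s` along `f` on `U`. -/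
def IsLocEq (f : Y ⟶ Z) (s : Coh.structureModule Z ⟶ L) (U : Y.Opens) (F : Γ(Y, U)) : Prop :=
  ∃ e : Γ((Scheme.Modules.pullback f).obj L, U), IsGen e ∧ sec (pullHom f s) U = F • e

theorem pullHom_comp (g : Y' ⟶ Y) (f : Y ⟶ Z) (s : Coh.structureModule Z ⟶ L) :
    pullHom g (pullHom f s) ≫ (Scheme.Modules.pullbackComp g f).hom.app L = pullHom (g ≫ f) s := by
  apply hom_ext_sec
  rw [sec_comp]
  have h1 : sec (pullHom g (pullHom f s)) ⊤ = pullSec g (pullSec f (sec s ⊤)) := by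
    rw [← sec_pullHom f s ⊤]
    exact sec_pullHom g (pullHom f s) ⊤
  rw [h1]
  refine (pullSec_comp' g f (sec s ⊤)).trans ?_
  exact (sec_pullHom (g ≫ f) s ⊤).symm

theorem IsLocEq.comp {f : Y ⟶ Z} {s : Coh.structureModule Z ⟶ L} {U : Y.Opens} {F : Γ(Y, U)} (h : IsLocEq f s U F)
    (g : Y' ⟶ Y) : IsLocEq (g ≫ f) s (g ⁻¹ᵁ U) (g.app U F) := by
  obtain ⟨e, he, h⟩ := h
  refine ⟨((Scheme.Modules.pullbackComp g f).hom.app L).app _ (pullSec g e), (he.pullSec g).app _, ?_⟩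
  rw [← pullHom_comp, sec_comp, sec_pullHom, h, pullSec_smul]
  exact Scheme.Modules.Hom.app_smul _ _ _

theorem IsLocEq.congr {f : Y ⟶ Z} {s : Coh.structureModule Z ⟶ L} {U : Y.Opens} {F : Γ(Y, U)} (h : IsLocEq f s U F)
    {g : Y ⟶ Z} (hg : f = g) : IsLocEq g s U F := hg ▸ h

theorem IsLocEq.res {f : Y ⟶ Z} {s : Coh.structureModule Z ⟶ L} {U : Y.Opens} {F : Γ(Y, U)} (h : IsLocEq f s U F)
    {V : Y.Opens} (hV : V ≤ U) : IsLocEq f s V (ores hV F) := by
  obtain ⟨e, he, h⟩ := h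
  refine ⟨Groth.Agent.Fdesc.LocGen.res _ hV e, he.res hV, ?_⟩
  rw [← res_sec _ hV, h, res_smul]

/-- Two local equations differ by a unit. -/
theorem IsLocEq.exists_unit {f : Y ⟶ Z} {s : Coh.structureModule Z ⟶ L} {U : Y.Opens} {F F' : Γ(Y, U)}
    (h : IsLocEq f s U F) (h' : IsLocEq f s U F') : ∃ c : Γ(Y, U), IsUnit c ∧ F' = c * F := by
  obtain ⟨e, he, h⟩ := h
  obtain ⟨e', he', h'⟩ := h'
  obtain ⟨c, hc⟩ := he.exists_eq e'
  have hu : IsUnit c := he.isUnit_of_smul (hc ▸ he')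
  rw [hc, smul_smul, h] at h'
  obtain ⟨d, hd⟩ := hu
  refine ⟨(d⁻¹ : Γ(Y, U)ˣ), Units.isUnit _, ?_⟩
  rw [he.ext h', ← hd, mul_comm F', Units.inv_mul_cancel_left]

/-- The non-vanishing locus of a local equation. -/
theorem IsLocEq.basicOpen (hL : PicF.IsInvertible L) {f : Y ⟶ Z} {s : Coh.structureModule Z ⟶ L} {U : Y.Opens}
    {F : Γ(Y, U)} (h : IsLocEq f s U F) : Y.basicOpen F = f ⁻¹ᵁ CohB1.genLocus L s ⊓ U := by
  obtain ⟨e, he, h⟩ := h
  rw [← genLocus_inf_eq _ he h, Groth.Agent.Ega1.AmpFam.genLocus_pullHom f hL]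

/-- The non-vanishing locus of a section is not changed by isomorphisms. -/
theorem genLocus_comp_iso {L' : Z.Modules} (e : L ≅ L') (s : Coh.structureModule Z ⟶ L) :
    CohB1.genLocus L' (s ≫ e.hom) = CohB1.genLocus L s := by
  have key : ∀ U : Z.Opens, U ≤ CohB1.genLocus L' (s ≫ e.hom) ↔ U ≤ CohB1.genLocus L s := by
    intro U
    rw [le_genLocus_iff, le_genLocus_iff, sec_comp]
    exact isGen_app_iff e.hom _
  exact le_antisymm ((key _).1 le_rfl) ((key _).2 le_rfl)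

end K395.LocEq
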