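import Groth.Agent.Ega4late.H535.PicPrincipal
import Groth.Agent.Grpsch.AmpBuild
import Groth.Agent.S1573

/-!
# Affine opens and regular functions on normal schemes are determined in codimension one

`X₀ ≤ X` an open containing all points of codimension at most one of a locally noetherian integral scheme.

* `exists_codim_one`: a point outside a nonempty open `V` with affine inclusion has a codimension one generization
  outside `V`;
* `le_of_big`: such a `V` contains `W` as soon as it contains `W ⊓ X₀`;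
* `exists_extend`: for `X` normal, functions on `V ⊓ X₀` extend to `V`.
-/

set_option autoImplicit false
universe u
open CategoryTheory CategoryTheory.Limits AlgebraicGeometry TopologicalSpace

namespace K395.NormExt

open Groth.Agent.Fdesc.LocGen

section

variable {X : Scheme.{u}}

/-- `X₀` contains all points of codimension at most one. -/
def Big (X₀ : X.Opens) : Prop := ∀ z : X, Order.coheight z ≤ 1 → z ∈ X₀

/-- A point of a closed subset has a generization which is maximal in the closed subset. -/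
theorem exists_max_generization {C : Set X} (hC : IsClosed C) {x : X} (hx : x ∈ C) :
    ∃ ξ, ξ ⤳ x ∧ ξ ∈ C ∧ ∀ y : X, y ∈ C → y ⤳ ξ → y = ξ := by
  let x' : C := ⟨x, hx⟩
  let Z₀ : Set C := irreducibleComponent x'
  have hZ₀ : IsIrreducible Z₀ := isIrreducible_irreducibleComponent
  have hZc : IsClosed (Subtype.val '' Z₀ : Set X) :=
    hC.isClosedEmbedding_subtypeVal.isClosedMap _ isClosed_irreducibleComponent
  have hZi : IsIrreducible (Subtype.val '' Z₀ : Set X) :=
    hZ₀.image _ continuous_subtype_val.continuousOn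
  obtain ⟨ξ, hξ⟩ := QuasiSober.sober hZi hZc
  have hξZ : ξ ∈ (Subtype.val '' Z₀ : Set X) := hξ.mem
  have hξC : ξ ∈ C := by
    obtain ⟨z, -, rfl⟩ := hξZ
    exact z.2
  refine ⟨ξ, ?_, hξC, fun y hy hyξ => ?_⟩
  · rw [specializes_iff_mem_closure, hξ.def]
    exact ⟨x', mem_irreducibleComponent, rfl⟩
  · let y' : C := ⟨y, hy⟩
    have h1 : Z₀ ⊆ closure {y'} := by
      intro z hz
      rw [← specializes_iff_mem_closure, Topology.IsInducing.subtypeVal.specializes_iff.symm]
      change y ⤳ z.1
      refine hyξ.trans ?_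
      rw [specializes_iff_mem_closure, hξ.def]
      exact ⟨z, hz, rfl⟩
    have h2 : closure {y'} ⊆ Z₀ := (irreducibleComponent_mem_irreducibleComponents x').2
      isIrreducible_singleton.closure h1
    have h3 : y ∈ (Subtype.val '' Z₀ : Set X) := ⟨y', h2 (subset_closure rfl), rfl⟩
    rw [← hξ.def] at h3
    exact (hyξ.antisymm (specializes_iff_mem_closure.2 h3)).eq

theorem exists_codim_one [IsIntegral X] [IsLocallyNoetherian X] (V : X.Opens) [IsAffineHom V.ι]
    (hne : (V : Set X).Nonempty) {x : X} (hx : x ∉ V) :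
    ∃ ξ, ξ ⤳ x ∧ ξ ∉ V ∧ Order.coheight ξ = 1 := by
  obtain ⟨ξ, h1, h2, h3⟩ := exists_max_generization (C := (V : Set X)ᶜ) V.2.isClosed_compl (x := x) hx
  refine ⟨ξ, h1, h2, ?_⟩
  have h4 := (Groth.Agent.S1573.result X V ξ h2 h3).2 (V.2.dense hne)
  rw [ringKrullDim_stalk_eq_coheight] at h4
  exact_mod_cast h4

theorem le_of_big [IsIntegral X] [IsLocallyNoetherian X] {X₀ : X.Opens} (h₀ : Big X₀) (V : X.Opens)
    [IsAffineHom V.ι] (hne : (V : Set X).Nonempty) (W : X.Opens) (h : W ⊓ X₀ ≤ V) : W ≤ V := by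
  intro x hx
  by_contra hxV
  obtain ⟨ξ, h1, h2, h3⟩ := exists_codim_one V hne hxV
  exact h2 (h ⟨h1.mem_open W.2 hx, h₀ ξ h3.le⟩)

theorem nonempty_inf_big [IsIntegral X] {X₀ : X.Opens} (h₀ : Big X₀) {V : X.Opens}
    (hne : (V : Set X).Nonempty) : genericPoint X ∈ V ⊓ X₀ := by
  obtain ⟨x, hx⟩ := hne
  refine ⟨(genericPoint_specializes x).mem_open V.2 hx, h₀ _ ?_⟩
  have : Order.coheight (genericPoint X) = 0 := by
    rw [Order.coheight_eq_zero]
    intro b hb
    exact (show genericPoint X ⤳ b from genericPoint_specializes b)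
  rw [this]
  exact zero_le_one

theorem isAffineHom_ι [X.IsSeparated] {V : X.Opens} (hV : IsAffineOpen V) : IsAffineHom V.ι := by
  refine ⟨fun W hW => ?_⟩
  have h1 := hV.inf hW
  rw [← V.ι.isAffineOpen_iff_of_isOpenImmersion]
  rw [Scheme.Hom.image_preimage_eq_opensRange_inf, Scheme.Opens.opensRange_ι]
  exact h1

end

section

variable {X : Scheme.{u}} [IsIntegral X] [IsLocallyNoetherian X]

open Groth.Agent.Ega4late.H535.PicPrincipal Groth.Agent.Ega4dB.CDivNormal

/-- Regularity of a rational function at `x` may be tested at the codimension one generizations of `x`. -/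
theorem regular_of_codim_one (hX : Pi1.IsNormalScheme X) (x : X) (f : X.functionField)
    (h : ∀ z : X, z ⤳ x → Order.coheight z = 1 → f ∈ Set.range (algebraMap (X.presheaf.stalk z) X.functionField)) :
    f ∈ Set.range (algebraMap (X.presheaf.stalk x) X.functionField) := by
  by_cases hf : f = 0
  · exact ⟨0, by rw [map_zero, hf]⟩
  obtain ⟨c, hc⟩ := regPt_of_ord_nonneg (fun x => (hX x).2) x f hf (fun z hz hz1 =>
    ord_nonneg_of_mem_range z f hf (h z hz hz1))
  exact ⟨c, hc⟩

/-- Functions on `V ⊓ X₀` extend to `V`. -/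
theorem exists_extend (hX : Pi1.IsNormalScheme X) {X₀ : X.Opens} (h₀ : Big X₀) (V : X.Opens)
    (s : Γ(X, V ⊓ X₀)) : ∃ t : Γ(X, V), ores inf_le_left t = s := by
  by_cases hne : (V : Set X).Nonempty
  · have hg := nonempty_inf_big h₀ hne
    have hn1 : Nonempty (V ⊓ X₀ : X.Opens) := ⟨⟨_, hg⟩⟩
    have hn2 : Nonempty V := ⟨⟨_, hg.1⟩⟩
    obtain ⟨t, ht⟩ := Groth.Agent.Grpsch.AmpBuild.exists_section_of_forall V (X.germToFunctionField (V ⊓ X₀) s)
      (fun x hx => regular_of_codim_one hX x _ fun z hz hz1 => by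
        have hzV : z ∈ V ⊓ X₀ := ⟨hz.mem_open V.2 hx, h₀ z hz1.le⟩
        exact ⟨X.presheaf.germ (V ⊓ X₀) z hzV s, Scheme.algebraMap_germ_eq_germToFunctionField X hzV s⟩)
    refine ⟨t, Scheme.germToFunctionField_injective X (V ⊓ X₀) ?_⟩
    rw [← ht]
    exact X.presheaf.germ_res_apply _ _ _ _
  · have hV : (V ⊓ X₀ : X.Opens) = ⊥ := by
      ext y
      refine ⟨fun hy => (hne ⟨y, hy.1⟩).elim, fun hy => hy.elim⟩
    have : Subsingleton Γ(X, V ⊓ X₀) := by
      rw [hV]
      exact inferInstance
    exact ⟨0, Subsingleton.elim _ _⟩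

end

end K395.NormExt
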