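import Groth.Agent.Grpsch.PicGrp
import Groth.Agent.S3840
import Groth.Agent.S0233
import Mathlib.AlgebraicGeometry.AffineSpace
import Mathlib.CategoryTheory.Monoidal.Cartesian.Over

/-!
# Invertible modules on `V × Y`, `V` open in an affine space, `Y` normal

* `exists_openImm`: the fibres of `V ⊗ Y ⟶ Y` are open in affine spaces;
* `exists_pull`: every class on `V ⊗ Y` is a pull-back from `Y`;
* `eq_pull_snd`: it is the pull-back of its restriction to any rational point of `V`.
-/

set_option autoImplicit false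
universe u
open CategoryTheory Limits MonoidalCategory CartesianMonoidalCategory MonObj AlgebraicGeometry
open Groth.Agent.Grpsch.PicGrp

namespace K395.PicRat

variable {k : Type u} [Field k]

/-- The fibres of the projection `V ⊗ Y ⟶ Y` are open in affine spaces. -/
theorem exists_openImm {n : Type u} (V Y : Over (Spec (CommRingCat.of k)))
    (j : V.left ⟶ 𝔸(n; Spec (CommRingCat.of k))) [IsOpenImmersion j]
    (hj : j ≫ (𝔸(n; Spec (CommRingCat.of k)) ↘ Spec (CommRingCat.of k)) = V.hom) (y : Y.left) :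
    ∃ φ : (snd V Y).left.fiber y ⟶ Spec (CommRingCat.of (MvPolynomial n (Y.left.residueField y))),
      IsOpenImmersion φ := by
  let f : (V ⊗ Y).left ⟶ Y.left := (snd V Y).left
  let g : Spec (Y.left.residueField y) ⟶ Spec (CommRingCat.of k) := Y.left.fromSpecResidueField y ≫ Y.hom
  have h1 : IsPullback (f.fiberι y) (f.fiberToSpecResidueField y) f (Y.left.fromSpecResidueField y) :=
    IsPullback.of_hasPullback f (Y.left.fromSpecResidueField y)
  have h2 : IsPullback (fst V Y).left f V.hom Y.hom := IsPullback.of_hasPullback V.hom Y.hom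
  have h3 : IsPullback (f.fiberι y ≫ (fst V Y).left) (f.fiberToSpecResidueField y) V.hom g :=
    h1.paste_horiz h2
  have h4 : IsPullback (AffineSpace.map n g) (𝔸(n; Spec (Y.left.residueField y)) ↘ _)
      (𝔸(n; Spec (CommRingCat.of k)) ↘ _) g := AffineSpace.isPullback_map g
  let φ : f.fiber y ⟶ 𝔸(n; Spec (Y.left.residueField y)) :=
    h4.lift (f.fiberι y ≫ (fst V Y).left ≫ j) (f.fiberToSpecResidueField y) (by
      rw [Category.assoc, Category.assoc, hj, ← h3.w, Category.assoc])
  have h5 : IsPullback (f.fiberι y ≫ (fst V Y).left) φ j (AffineSpace.map n g) := by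
    refine IsPullback.of_bot (v₂₁ := 𝔸(n; Spec (Y.left.residueField y)) ↘ _) ?_ ?_ h4
    · rw [hj, h4.lift_snd]
      exact h3
    · rw [h4.lift_fst, Category.assoc]
  have h6 : IsOpenImmersion φ := MorphismProperty.of_isPullback h5 ‹_›
  exact ⟨φ ≫ (AffineSpace.SpecIso n (Y.left.residueField y)).hom, inferInstance⟩

/-- Invertible modules on open subschemes of `Spec` of a unique factorisation domain are trivial. -/
theorem trivial_of_openImm {R : Type u} [CommRing R] [IsDomain R] [UniqueFactorizationMonoid R] {F : Scheme.{u}}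
    (φ : F ⟶ Spec (CommRingCat.of R)) [IsOpenImmersion φ] (c : Pic F) : c = 1 := by
  let U := φ.opensRange
  let e : F ≅ (U : Scheme.{u}) := φ.isoOpensRange
  have h : pull e.inv c = 1 := by
    obtain ⟨L, hL, h⟩ := exists_mk (pull e.inv c)
    rw [h, mk_eq_one_iff]
    exact Groth.Agent.S0233.result R U L hL
  have h2 : c = pull e.hom (pull e.inv c) := by
    rw [← pull_comp, e.hom_inv_id, pull_id]
  rw [h2, h, map_one]

/-- Every class on `V ⊗ Y` comes from `Y`. -/
theorem exists_pull {n : Type u} [Finite n] (V Y : Over (Spec (CommRingCat.of k)))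
    (j : V.left ⟶ 𝔸(n; Spec (CommRingCat.of k))) [IsOpenImmersion j]
    (hj : j ≫ (𝔸(n; Spec (CommRingCat.of k)) ↘ Spec (CommRingCat.of k)) = V.hom) [Nonempty V.left]
    [LocallyOfFiniteType Y.hom] (hY : Pi1.IsNormalScheme Y.left) (c : Pic (V ⊗ Y).left) :
    ∃ d : Pic Y.left, pull (snd V Y).left d = c := by
  obtain ⟨L, hL, rfl⟩ := exists_mk c
  have hYn : IsLocallyNoetherian Y.left := LocallyOfFiniteType.isLocallyNoetherian Y.hom
  have hV : LocallyOfFiniteType V.hom := by rw [← hj]; infer_instance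
  have h2 : (snd V Y).left = pullback.snd V.hom Y.hom := rfl
  have h3 : Flat (snd V Y).left := by rw [h2]; infer_instance
  have h4 : LocallyOfFiniteType (snd V Y).left := by rw [h2]; infer_instance
  have h5 : Surjective V.hom := ⟨fun x => by
    obtain ⟨v⟩ := ‹Nonempty V.left›
    exact ⟨v, Subsingleton.elim _ _⟩⟩
  have h6 : Surjective (snd V Y).left := by rw [h2]; infer_instance
  have h7 : IsLocallyNoetherian (V ⊗ Y).left := LocallyOfFiniteType.isLocallyNoetherian (snd V Y).left
  have h8 : LocallyOfFinitePresentation (snd V Y).left := inferInstance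
  have hne : ∀ y : Y.left, Nonempty ((snd V Y).left.fiber y) := fun y => by
    obtain ⟨z, hz⟩ := (snd V Y).left.surjective y
    exact ⟨(snd V Y).left.asFiber z |> fun w => hz ▸ w⟩
  obtain ⟨M, hM, ⟨e⟩⟩ := Groth.Agent.S3840.result (snd V Y).left (Or.inr (snd V Y).left.isOpenMap) hY
    (fun y _ => by
      obtain ⟨φ, hφ⟩ := exists_openImm V Y j hj y
      have := hne y
      exact isIntegral_of_isOpenImmersion φ) L hL
    (fun y _ => by
      obtain ⟨φ, hφ⟩ := exists_openImm V Y j hj y
      have := trivial_of_openImm φ (pull ((snd V Y).left.fiberι y) (mk L hL))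
      rwa [pull_mk, mk_eq_one_iff] at this)
  exact ⟨mk M hM, by rw [pull_mk, mk_eq_iff]; exact ⟨e⟩⟩

theorem eq_pull_snd {n : Type u} [Finite n] (V Y : Over (Spec (CommRingCat.of k)))
    (j : V.left ⟶ 𝔸(n; Spec (CommRingCat.of k))) [IsOpenImmersion j]
    (hj : j ≫ (𝔸(n; Spec (CommRingCat.of k)) ↘ Spec (CommRingCat.of k)) = V.hom)
    [LocallyOfFiniteType Y.hom] (hY : Pi1.IsNormalScheme Y.left) (c : Pic (V ⊗ Y).left)
    (v : 𝟙_ (Over (Spec (CommRingCat.of k))) ⟶ V) :
    pull (snd V Y).left (pull (lift (toUnit Y ≫ v) (𝟙 Y)).left c) = c := by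
  have : Nonempty V.left := ⟨v.left (IsLocalRing.closedPoint k)⟩
  obtain ⟨d, rfl⟩ := exists_pull V Y j hj hY c
  rw [← pull_comp, ← Over.comp_left, ← pull_comp, ← Over.comp_left, Category.assoc, lift_snd, Category.comp_id]

end K395.PicRat
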