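import Groth.Agent.AlgGrp.K395.BigAmple
import Groth.Agent.AlgGrp.K395.SmLoc
import Groth.Agent.AlgGrp.K395.LocEq
import Groth.Agent.Variety.K436.FibNormal
import Groth.Agent.CalgB.ProjImm2
import Groth.Prelude.Def_RelProj

/-!
# Sumihiro's theorem, quasi-projective case

`G` smooth over an algebraically closed field `k` acting on a normal variety `X` so that the translations act trivially
on the invertible modules of normal `G`-schemes; if `X = G · U` with `U` affine open then `X` is quasi-projective.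
-/

set_option autoImplicit false
universe u
open CategoryTheory CategoryTheory.Limits AlgebraicGeometry TopologicalSpace MonoidalCategory CartesianMonoidalCategory
  MonObj GrpObj
open K413.Saturate K395.NormExt K395.SmLoc K395.BigAmple
open Groth.Agent.Grpsch.PicGrp Groth.Agent.Books.AlgPts Groth.Agent.Fdesc.LocGen

namespace K395.SumiQP

variable {k : Type u} [Field k] {G X : Over (Spec (CommRingCat.of k))} [GrpObj G]

/-- Every point of `G · U` lies in a translate of `U` by a rational point. -/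
theorem iSup_translate_eq_top [IsAlgClosed k] [LocallyOfFiniteType G.hom] [LocallyOfFiniteType X.hom]
    (a : AlgGrp.Action G X) (U : X.left.Opens) (h : sat a (U : Set X.left) = Set.univ) :
    ⨆ g : 𝟙_ (Over (Spec (CommRingCat.of k))) ⟶ G, (Transl.tr a g).left ⁻¹ᵁ U = ⊤ := by
  apply Opens.ext
  rw [Opens.coe_top]
  refine Set.eq_univ_of_univ_subset ?_
  have hF := (⨆ g : 𝟙_ (Over (Spec (CommRingCat.of k))) ⟶ G, (Transl.tr a g).left ⁻¹ᵁ U).2
  by_contra hne
  obtain ⟨z, -, hz⟩ := Set.not_subset.mp hne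
  obtain ⟨x, hx⟩ := exists_pt_mem (X := X)
    (U := ((⨆ g : 𝟙_ (Over (Spec (CommRingCat.of k))) ⟶ G, (Transl.tr a g).left ⁻¹ᵁ U : X.left.Opens) : Set X.left)ᶜ)
    ⟨z, hz⟩ hF.isClosed_compl.isLocallyClosed
  refine hx ?_
  obtain ⟨p, hp1, hp2⟩ : pt x ∈ sat a (U : Set X.left) := by rw [h]; trivial
  have : LocallyOfFiniteType (snd G X).left := Act.snd_mem @LocallyOfFiniteType G X inferInstance
  have : LocallyOfFiniteType (G ⊗ X).hom := by
    rw [← Over.w (snd G X)]
    infer_instance
  obtain ⟨q, hq⟩ := exists_pt_mem (X := G ⊗ X) (U := (snd G X).left ⁻¹' U ∩ a.act.left ⁻¹' {pt x})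
    ⟨p, hp1, hp2⟩ ((U.2.preimage (snd G X).left.continuous).isLocallyClosed.inter
      ((isClosed_pt x).preimage a.act.left.continuous).isLocallyClosed)
  have h1 : q ≫ a.act = x := pt_injective (by rw [pt_comp]; exact hq.2)
  have h2 : pt (q ≫ snd G X) ∈ U := by rw [pt_comp]; exact hq.1
  rw [SetLike.mem_coe, Opens.mem_iSup]
  refine ⟨(q ≫ fst G X)⁻¹, ?_⟩
  change (Transl.tr a (q ≫ fst G X)⁻¹).left (pt x) ∈ U
  rw [← pt_comp, Transl.comp_tr]
  have h3 : lift (toUnit (𝟙_ (Over (Spec (CommRingCat.of k)))) ≫ (q ≫ fst G X)⁻¹) x ≫ a.act = q ≫ snd G X := by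
    rw [toUnit_unique (toUnit (𝟙_ (Over (Spec (CommRingCat.of k))))) (𝟙 _), Category.id_comp, ← h1]
    have h4 : q ≫ a.act = lift (q ≫ fst G X) (q ≫ snd G X) ≫ a.act := by
      rw [← comp_lift, lift_fst_snd, Category.comp_id]
    rw [h4, Act.inv_lift]
  rw [h3]
  exact h2

/-- The invariance of the Picard group under translations. -/
def TrivialOnPic (G : Over (Spec (CommRingCat.of k))) [GrpObj G] : Prop :=
  ∀ (Z : Over (Spec (CommRingCat.of k))) [LocallyOfFiniteType Z.hom] (_ : Pi1.IsNormalScheme Z.left)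
    (b : AlgGrp.Action G Z) (g : 𝟙_ (Over (Spec (CommRingCat.of k))) ⟶ G) (c : Pic Z.left),
    pull (Transl.tr b g).left c = c

theorem exists_isAmple [IsAlgClosed k] [Smooth G.hom] (hG : TrivialOnPic G) [IsIntegral X.left] [IsSeparated X.hom]
    [LocallyOfFiniteType X.hom] [QuasiCompact X.hom] (hX : Pi1.IsNormalScheme X.left) (a : AlgGrp.Action G X)
    {U : X.left.Opens} (hU : IsAffineOpen U) (hne : (U : Set X.left).Nonempty)
    (h : sat a (U : Set X.left) = Set.univ) : ∃ M : X.left.Modules, CohB1.IsAmple M := by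
  have hN : IsLocallyNoetherian X.left := LocallyOfFiniteType.isLocallyNoetherian X.hom
  have hC : CompactSpace X.left := QuasiCompact.compactSpace_of_compactSpace X.hom
  have : IsNoetherian X.left := {}
  have hS : X.left.IsSeparated := ⟨by
    rw [← terminal.comp_from X.hom]
    infer_instance⟩
  set X₀ := X.hom.smoothLocus with hX₀
  have h₀ : Big X₀ := big_smoothLocus X.hom hX
  have hst : sat a (X₀ : Set X.left) ⊆ X₀ := sat_smoothLocus_subset a
  have hsm : Smooth (X₀.ι ≫ X.hom) := Groth.Agent.Sga4h.H915.SmoothPart.smooth_smoothLocus X.hom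
  let b := restr a hst
  have hgen := nonempty_inf_big h₀ hne
  have hZ1 : IsLocallyNoetherian X₀.toScheme := LocallyOfFiniteType.isLocallyNoetherian (X₀.ι ≫ X.hom)
  have hZ2 : CompactSpace X₀.toScheme := isCompact_iff_compactSpace.1 (TopologicalSpace.NoetherianSpace.isCompact _)
  have hZ : IsNoetherian X₀.toScheme := {}
  have hZn : Nonempty X₀ := ⟨⟨_, hgen.2⟩⟩
  have hZi : IsIntegral X₀.toScheme := inferInstance
  have hUa : IsAffineHom U.ι := isAffineHom_ι hU
  let W : X₀.toScheme.Opens := X₀.ι ⁻¹ᵁ U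
  have hWa : IsAffineHom W.ι :=
    MorphismProperty.of_isPullback (P := @IsAffineHom) (isPullback_morphismRestrict X₀.ι U) hUa
  have hWd : Dense (W : Set X₀.toScheme) := W.2.dense ⟨⟨_, hgen.2⟩, hgen.1⟩
  obtain ⟨L, s, hL, hs⟩ := exists_section_compl W hWd fun x _ => by
    let _ : X₀.toScheme.Over (Spec (CommRingCat.of k)) := ⟨X₀.ι ≫ X.hom⟩
    have : Smooth (X₀.toScheme ↘ Spec (CommRingCat.of k)) := hsm
    have := Groth.Agent.S1535.result k X₀.toScheme x
    exact Groth.Agent.S2821.result _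
  have hT : ∀ g : 𝟙_ (Over (Spec (CommRingCat.of k))) ⟶ G, ∃ t : Coh.structureModule X₀.toScheme ⟶ L,
      CohB1.genLocus _ t = X₀.ι ⁻¹ᵁ ((Transl.tr a g).left ⁻¹ᵁ U) := by
    intro g
    have hlft : LocallyOfFiniteType (sub X₀).hom := inferInstanceAs (LocallyOfFiniteType (X₀.ι ≫ X.hom))
    have h1 := hG (sub X₀) (K436.FibNormal.isNormalScheme_opens hX X₀) b g (mk L hL)
    rw [pull_mk, mk_eq_iff] at h1
    obtain ⟨e⟩ := h1
    refine ⟨pullHom (Transl.tr b g).left s ≫ e.hom, ?_⟩
    rw [LocEq.genLocus_comp_iso, Groth.Agent.Ega1.AmpFam.genLocus_pullHom _ hL, hs]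
    have h2 := congrArg (fun q : sub X₀ ⟶ X => q.left ⁻¹ᵁ U) (tr_restr_inc a hst g)
    exact h2
  choose t ht using hT
  exact exists_isAmple_of_big hX h₀ (fun g => (Transl.tr a g).left ⁻¹ᵁ U) (fun g => hU.preimage _) (fun g => by
    exact hne.preimage (Transl.tr a g).left.surjective) (iSup_translate_eq_top a U h) t ht

/-- The quasi-projective version of Sumihiro's theorem. -/
theorem exists_quasiProjective_nhd [IsAlgClosed k] [Smooth G.hom] (hG : TrivialOnPic G) [IsIntegral X.left]
    [IsSeparated X.hom] [LocallyOfFiniteType X.hom] [QuasiCompact X.hom] (hX : Pi1.IsNormalScheme X.left)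
    (a : AlgGrp.Action G X) (x : X.left) :
    ∃ U : X.left.Opens, x ∈ U ∧ a.act.left ⁻¹ᵁ U = (snd G X).left ⁻¹ᵁ U ∧
      RelProj.IsQuasiProjective (U.ι ≫ X.hom) := by
  have hN : IsLocallyNoetherian X.left := LocallyOfFiniteType.isLocallyNoetherian X.hom
  have hC : CompactSpace X.left := QuasiCompact.compactSpace_of_compactSpace X.hom
  have : IsNoetherian X.left := {}
  obtain ⟨V, hV, hxV, -⟩ := exists_isAffineOpen_mem_and_subset (x := x) (U := (⊤ : X.left.Opens)) trivial
  have hG2 : UniversallyOpen G.hom := inferInstance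
  let U : X.left.Opens := ⟨sat a V, isOpen_sat a hG2 V.2⟩
  have hVU : V ≤ U := subset_sat a V
  have hst : sat a (U : Set X.left) ⊆ U := sat_sat a V
  have hUn : Nonempty U := ⟨⟨x, hVU hxV⟩⟩
  have hlft : LocallyOfFiniteType (U.ι ≫ X.hom) := inferInstance
  have hqc : QuasiCompact (U.ι ≫ X.hom) := inferInstance
  refine ⟨U, hVU hxV, ?_, hlft, hqc, ?_⟩
  · apply Opens.ext
    exact (preimage_eq a hst).symm
  have hi : IsIntegral (sub U).left := inferInstanceAs (IsIntegral U.toScheme)
  have hsep : IsSeparated (sub U).hom := inferInstanceAs (IsSeparated (U.ι ≫ X.hom))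
  have h1 : LocallyOfFiniteType (sub U).hom := hlft
  have h2 : QuasiCompact (sub U).hom := hqc
  let V' : (sub U).left.Opens := U.ι ⁻¹ᵁ V
  have hV' : IsAffineOpen V' := hV.preimage_of_isOpenImmersion U.ι (by simpa using hVU)
  have hsat : sat (restr a hst) (V' : Set (sub U).left) = Set.univ := by
    refine Set.eq_univ_of_forall fun y => ?_
    obtain ⟨p, hp1, hp2⟩ := y.2
    obtain ⟨r, hr1, hr2⟩ := Scheme.exists_preimage_of_isPullback
      (Groth.Agent.Sga3C.SchemImage.isPullback_whiskerLeft_left (inc U) G) p (⟨(snd G X).left p, hVU hp1⟩ : U) rfl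
    refine ⟨r, ?_, ?_⟩
    · change ((snd G (sub U)).left r).1 ∈ V
      rw [hr2]
      exact hp1
    · apply (inc U).left.isOpenEmbedding.injective
      rw [← comp_left_apply, restr_act_inc, comp_left_apply, hr1]
      exact hp2
  obtain ⟨M, hM⟩ := exists_isAmple hG (X := sub U) (K436.FibNormal.isNormalScheme_opens hX U)
    (restr a hst) hV' ⟨⟨x, hVU hxV⟩, hxV⟩ hsat
  exact ⟨M, Groth.Agent.CalgB.ProjImm.isRelAmple_of_isAmple hM⟩

end K395.SumiQP
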