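import Groth.Agent.Sga3B.RG.BrDiag
import Groth.Agent.Sga3B.AffPts
import Groth.Agent.Sga3B.BcSpec144
import Groth.Agent.Books.AlgPts
import Groth.Agent.AlgGrp.K405.GmLaw

/-!
# Values of functions at rational points; functions on a split torus

* `val t`: the value at the rational point `t` of a global function, `mem_basicOpen_iff`;
* `exists_kappa`: for a split torus `T` over an algebraically closed field there is an injective family of characters
  `κ m : T(k) →* k` such that functions on `T` are linear combinations of characters, and units are multiples of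
  characters.
-/

set_option autoImplicit false
universe u
open CategoryTheory MonoidalCategory CartesianMonoidalCategory MonObj GrpObj AlgebraicGeometry Limits

namespace K395.TorEv

open Groth.Agent.Books.AffBridge Groth.Agent.Sga3B.AffPts Groth.Agent.Books.AlgPts

variable {k : Type u} [Field k]

/-- The value of a global function at a rational point. -/
noncomputable def val {X : Over (Spec (CommRingCat.of k))} (t : 𝟙_ (Over (Spec (CommRingCat.of k))) ⟶ X) :
    Fn X →ₐ[k] k where
  __ := (Scheme.ΓSpecIso (CommRingCat.of k)).hom.hom.comp t.left.appTop.hom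
  commutes' c := by
    have h1 : ((Scheme.ΓSpecIso (CommRingCat.of k)).inv ≫ X.hom.appTop) ≫ t.left.appTop ≫
        (Scheme.ΓSpecIso (CommRingCat.of k)).hom = 𝟙 _ := by
      have h2 : X.hom.appTop ≫ t.left.appTop = 𝟙 _ := by
        rw [← Scheme.Hom.comp_appTop, Over.w]
        exact Scheme.Hom.id_appTop
      rw [Category.assoc, reassoc_of% h2, Iso.inv_hom_id]
    exact congr($h1 c)

theorem val_fnMap {X Y : Over (Spec (CommRingCat.of k))} (t : 𝟙_ (Over (Spec (CommRingCat.of k))) ⟶ X)
    (f : X ⟶ Y) (b : Fn Y) : val t (fnMap f b) = val (t ≫ f) b := rfl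

theorem mem_basicOpen_spec (c : Γ(Spec (CommRingCat.of k), ⊤)) (x : Spec (CommRingCat.of k)) :
    x ∈ (Spec (CommRingCat.of k)).basicOpen c ↔ (Scheme.ΓSpecIso (CommRingCat.of k)).hom c ≠ 0 := by
  constructor
  · intro h h0
    have h2 : c = 0 := by
      apply (Scheme.ΓSpecIso (CommRingCat.of k)).commRingCatIsoToRingEquiv.injective
      rw [map_zero]
      exact h0
    rw [h2, Scheme.basicOpen_zero] at h
    exact h
  · intro h
    have h2 : IsUnit c := by
      have h3 : IsUnit ((Scheme.ΓSpecIso (CommRingCat.of k)).hom c : k) := isUnit_iff_ne_zero.2 h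
      have := h3.map (Scheme.ΓSpecIso (CommRingCat.of k)).commRingCatIsoToRingEquiv.symm
      have h4 : (Scheme.ΓSpecIso (CommRingCat.of k)).commRingCatIsoToRingEquiv.symm
          ((Scheme.ΓSpecIso (CommRingCat.of k)).hom c) = c :=
        RingEquiv.symm_apply_apply _ _
      rwa [h4] at this
    rw [Scheme.basicOpen_of_isUnit _ h2]
    trivial

theorem mem_basicOpen_iff {X : Over (Spec (CommRingCat.of k))} (t : 𝟙_ (Over (Spec (CommRingCat.of k))) ⟶ X)
    (b : Fn X) : pt t ∈ X.left.basicOpen (b : Γ(X.left, ⊤)) ↔ val t b ≠ 0 :=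
  (Iff.of_eq (congrArg (fun U : (Spec (CommRingCat.of k)).Opens => IsLocalRing.closedPoint k ∈ U)
    (Scheme.preimage_basicOpen_top t.left (b : Γ(X.left, ⊤))))).trans (mem_basicOpen_spec _ _)

theorem eq_zero_of_forall_val [IsAlgClosed k] {X : Over (Spec (CommRingCat.of k))} [LocallyOfFiniteType X.hom]
    [IsReduced X.left] [CompactSpace X.left] (b : Fn X)
    (h : ∀ t : 𝟙_ (Over (Spec (CommRingCat.of k))) ⟶ X, val t b = 0) : b = 0 := by
  by_contra hb
  have h1 : X.left.basicOpen (b : Γ(X.left, ⊤)) ≠ ⊥ := fun h0 => hb ((basicOpen_eq_bot_iff _).1 h0)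
  have h2 : ((X.left.basicOpen (b : Γ(X.left, ⊤)) : X.left.Opens) : Set X.left).Nonempty := by
    rw [Set.nonempty_iff_ne_empty]
    intro h0
    exact h1 (TopologicalSpace.Opens.ext h0)
  obtain ⟨t, ht⟩ := exists_pt_mem h2 (X.left.basicOpen (b : Γ(X.left, ⊤))).2.isLocallyClosed
  exact (mem_basicOpen_iff t b).1 ht (h t)

section torus

variable {M : Type} [CommGroup M] {T : Over (Spec (CommRingCat.of k))} [GrpObj T]
  (e : T ≅ SpecOver k (MonoidAlgebra k M))

/-- The functions on a split torus. -/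
noncomputable def fnT : MonoidAlgebra k M →ₐ[k] Fn T :=
  (fnMap e.hom).comp (fnSpec (R := k) (MonoidAlgebra k M)).symm.toAlgHom

omit [GrpObj T] in
theorem fnT_bijective : Function.Bijective (fnT e) := by
  have h1 : Function.Bijective (fnMap e.hom) := by
    refine Function.bijective_iff_has_inverse.2 ⟨fnMap e.inv, fun x => ?_, fun x => ?_⟩
    · change (fnMap e.inv).comp (fnMap e.hom) x = x
      have : (fnMap e.inv).comp (fnMap e.hom) = fnMap (e.inv ≫ e.hom) := rfl
      rw [this, e.inv_hom_id]
      exact congr($(Scheme.Hom.id_appTop (X := (SpecOver k (MonoidAlgebra k M)).left)) x)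
    · change (fnMap e.hom).comp (fnMap e.inv) x = x
      have : (fnMap e.hom).comp (fnMap e.inv) = fnMap (e.hom ≫ e.inv) := rfl
      rw [this, e.hom_inv_id]
      exact congr($(Scheme.Hom.id_appTop (X := T.left)) x)
  exact h1.comp (fnSpec (R := k) (MonoidAlgebra k M)).symm.bijective

/-- The algebra map to the functions on the point. -/
noncomputable def gA (t : 𝟙_ (Over (Spec (CommRingCat.of k))) ⟶ T) :
    WithConv (MonoidAlgebra k M →ₐ[k] Fn (𝟙_ (Over (Spec (CommRingCat.of k))))) :=
  (affEquiv (A := MonoidAlgebra k M) (𝟙_ (Over (Spec (CommRingCat.of k))))).symm (t ≫ e.hom)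

theorem gA_mul [IsMonHom e.hom] (t t' : 𝟙_ (Over (Spec (CommRingCat.of k))) ⟶ T) :
    gA e (t * t') = gA e t * gA e t' := by
  rw [gA, MonObj.mul_comp, map_mul]
  rfl

omit [GrpObj T] in
theorem gA_apply (t : 𝟙_ (Over (Spec (CommRingCat.of k))) ⟶ T) (a : MonoidAlgebra k M) :
    (gA e t).ofConv a = fnMap t (fnT e a) := by
  have h1 : affPt (𝟙_ (Over (Spec (CommRingCat.of k)))) (gA e t).ofConv = t ≫ e.hom :=
    (affEquiv (A := MonoidAlgebra k M) (𝟙_ (Over (Spec (CommRingCat.of k))))).apply_symm_apply (t ≫ e.hom)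
  have h2 := Groth.Agent.Sga3B.BcSpec144.fnMap_affPt _ (gA e t).ofConv
  rw [h1] at h2
  exact (congr($h2 a)).symm

omit [GrpObj T] in
theorem isUnit_val_fnT (m : M) (t : 𝟙_ (Over (Spec (CommRingCat.of k))) ⟶ T) :
    IsUnit (val t (fnT e (MonoidAlgebra.single m 1))) := by
  have : IsUnit (MonoidAlgebra.single m 1 : MonoidAlgebra k M) := by
    refine IsUnit.of_mul_eq_one (MonoidAlgebra.single m⁻¹ 1) ?_
    rw [MonoidAlgebra.single_mul_single, mul_inv_cancel, _root_.one_mul]
    rfl
  exact (this.map (fnT e)).map (val t)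

theorem val_mul [IsMonHom e.hom] (m : M) (t t' : 𝟙_ (Over (Spec (CommRingCat.of k))) ⟶ T) :
    val (t * t') (fnT e (MonoidAlgebra.single m 1)) =
      val t (fnT e (MonoidAlgebra.single m 1)) * val t' (fnT e (MonoidAlgebra.single m 1)) := by
  change val (𝟙 _) (fnMap (t * t') (fnT e (MonoidAlgebra.single m 1))) =
    val (𝟙 _) (fnMap t (fnT e (MonoidAlgebra.single m 1))) *
      val (𝟙 _) (fnMap t' (fnT e (MonoidAlgebra.single m 1)))
  rw [← gA_apply, ← gA_apply, ← gA_apply, gA_mul, ← map_mul]
  congr 1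
  exact MonoidAlgebra.convMul_algHom_single_one _ _ _

/-- The characters, on rational points. -/
noncomputable def kap [IsMonHom e.hom] (m : M) : (𝟙_ (Over (Spec (CommRingCat.of k))) ⟶ T) →* k where
  toFun t := val t (fnT e (MonoidAlgebra.single m 1))
  map_one' := by
    have h1 := val_mul e m 1 1
    rw [_root_.mul_one] at h1
    exact (mul_eq_left₀ (isUnit_val_fnT e m 1).ne_zero).1 h1.symm
  map_mul' t t' := val_mul e m t t'

theorem kap_apply [IsMonHom e.hom] (m : M) (t : 𝟙_ (Over (Spec (CommRingCat.of k))) ⟶ T) :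
    kap e m t = val t (fnT e (MonoidAlgebra.single m 1)) := rfl

theorem kap_ne_zero [IsMonHom e.hom] (m : M) (t : 𝟙_ (Over (Spec (CommRingCat.of k))) ⟶ T) : kap e m t ≠ 0 :=
  (isUnit_val_fnT e m t).ne_zero

theorem kap_mul [IsMonHom e.hom] (m m' : M) (t : 𝟙_ (Over (Spec (CommRingCat.of k))) ⟶ T) :
    kap e (m * m') t = kap e m t * kap e m' t := by
  rw [kap_apply, kap_apply, kap_apply, ← map_mul, ← map_mul, MonoidAlgebra.single_mul_single, _root_.one_mul]

theorem val_fnT_single [IsMonHom e.hom] (m : M) (c : k) (t : 𝟙_ (Over (Spec (CommRingCat.of k))) ⟶ T) :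
    val t (fnT e (MonoidAlgebra.single m c)) = c * kap e m t := by
  have : (MonoidAlgebra.single m c : MonoidAlgebra k M) = c • MonoidAlgebra.single m 1 := by
    rw [MonoidAlgebra.smul_single, smul_eq_mul, _root_.mul_one]
  rw [this, map_smul, map_smul, kap_apply, smul_eq_mul]

theorem val_fnT [IsMonHom e.hom] (a : MonoidAlgebra k M) (t : 𝟙_ (Over (Spec (CommRingCat.of k))) ⟶ T) :
    val t (fnT e a) = ∑ m ∈ a.coeff.support, a.coeff m * kap e m t := by
  conv_lhs => rw [← MonoidAlgebra.sum_coeff_single a]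
  rw [Finsupp.sum, map_sum, map_sum]
  refine Finset.sum_congr rfl fun m _ => ?_
  rw [val_fnT_single]

theorem exists_sum [IsMonHom e.hom] (b : Fn T) : ∃ (E : Finset M) (c : M → k),
    ∀ t : 𝟙_ (Over (Spec (CommRingCat.of k))) ⟶ T, val t b = ∑ m ∈ E, c m * kap e m t := by
  obtain ⟨a, rfl⟩ := (fnT_bijective e).2 b
  exact ⟨_, _, val_fnT e a⟩

theorem exists_of_isUnit [IsMonHom e.hom] [TwoUniqueProds M] (b : Fn T) (hb : IsUnit b) : ∃ (c : k) (m : M), c ≠ 0 ∧
    ∀ t : 𝟙_ (Over (Spec (CommRingCat.of k))) ⟶ T, val t b = c * kap e m t := by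
  obtain ⟨a, rfl⟩ := (fnT_bijective e).2 b
  have ha : IsUnit a := by
    have := hb.map (AlgEquiv.ofBijective (fnT e) (fnT_bijective e)).symm
    rwa [show (AlgEquiv.ofBijective (fnT e) (fnT_bijective e)).symm (fnT e a) = a from
      (AlgEquiv.ofBijective (fnT e) (fnT_bijective e)).symm_apply_apply a] at this
  obtain ⟨m, c, rfl⟩ := K405.GmLaw.exists_single_of_isUnit a ha
  refine ⟨c, m, ?_, fun t => ?_⟩
  · rintro rfl
    rw [MonoidAlgebra.single_zero] at ha
    exact not_isUnit_zero ha
  · exact val_fnT_single e m c t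

theorem kap_injective [IsAlgClosed k] [IsMonHom e.hom] [IsDomain (MonoidAlgebra k M)] [LocallyOfFiniteType T.hom] :
    Function.Injective (kap e) := by
  intro m m' h
  have hr : IsReduced T.left := by
    have : IsReduced (SpecOver k (MonoidAlgebra k M)).left :=
      inferInstanceAs (IsReduced (Spec (CommRingCat.of (MonoidAlgebra k M))))
    exact isReduced_of_isOpenImmersion e.hom.left
  have hc : CompactSpace T.left := by
    have : CompactSpace (SpecOver k (MonoidAlgebra k M)).left :=
      inferInstanceAs (CompactSpace (Spec (CommRingCat.of (MonoidAlgebra k M))))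
    exact QuasiCompact.compactSpace_of_compactSpace e.hom.left
  have h1 : fnT e (MonoidAlgebra.single m 1 - MonoidAlgebra.single m' 1) = 0 := by
    refine eq_zero_of_forall_val _ fun t => ?_
    rw [map_sub, map_sub, ← kap_apply, ← kap_apply, h, sub_self]
  have h2 := (fnT_bijective e).1 (h1.trans (map_zero _).symm)
  rw [sub_eq_zero] at h2
  exact MonoidAlgebra.single_left_injective one_ne_zero h2

end torus

end K395.TorEv
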