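import Groth.Agent.Fga.LimSec
import Groth.Agent.Localalg.VanGen
import Groth.Agent.AlgGrp.K395.TorEv
import Groth.Agent.AlgGrp.K395.Transl

/-!
# Functions on `T × V`, `T` affine, evaluated at the rational points of `T`

* `str U`: the constants in `Γ(Z, U)`;
* `at_ t V`: restriction of functions on `T × V` to `{t} × V`;
* `exists_decomp`: if the functions on `T` are linear combinations of functions `κ m`, then the values of a function on
  `T × V`, `V` affine, are `∑ κ m (t) f m`.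
-/

set_option autoImplicit false
universe u
open CategoryTheory MonoidalCategory CartesianMonoidalCategory MonObj GrpObj AlgebraicGeometry Limits

namespace K395.TorDec

open Groth.Agent.Sga3B.AffPts Groth.Agent.Books.AlgPts Groth.Agent.Fga.LimSec TorEv

variable {k : Type u} [Field k]

section str

/-- The constants. -/
noncomputable def str {Z : Over (Spec (CommRingCat.of k))} (U : Z.left.Opens) : k →+* Γ(Z.left, U) :=
  (al Z.hom (U := ⊤) (W := U) le_top).comp (Scheme.ΓSpecIso (CommRingCat.of k)).inv.hom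

theorem al_str {Z Z' : Over (Spec (CommRingCat.of k))} (f : Z ⟶ Z') {U : Z'.left.Opens} {W : Z.left.Opens}
    (h : W ≤ f.left ⁻¹ᵁ U) (c : k) : al f.left h (str U c) = str W c := by
  rw [str, str, RingHom.comp_apply, RingHom.comp_apply, al_comp]
  exact al_congr (Over.w f) _ _ _

theorem ores_str {Z : Over (Spec (CommRingCat.of k))} {U V : Z.left.Opens} (h : V ≤ U) (c : k) :
    Groth.Agent.Fdesc.LocGen.ores h (str U c) = str V c := by
  rw [str, str, RingHom.comp_apply, RingHom.comp_apply, ores_al]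

theorem al_id {Y : Scheme.{u}} {V : Y.Opens} (h : V ≤ (𝟙 Y) ⁻¹ᵁ V) (g : Γ(Y, V)) : al (𝟙 Y) h g = g :=
  (app_eq_al (𝟙 Y) V g).symm.trans congr($(Scheme.Hom.id_app V) g)

end str

variable {T Z : Over (Spec (CommRingCat.of k))}

/-- The section `z ↦ (t, z)`. -/
noncomputable def sc (Z : Over (Spec (CommRingCat.of k))) (t : 𝟙_ (Over (Spec (CommRingCat.of k))) ⟶ T) :
    Z ⟶ T ⊗ Z := lift (toUnit Z ≫ t) (𝟙 Z)

theorem sc_snd (t : 𝟙_ (Over (Spec (CommRingCat.of k))) ⟶ T) : sc Z t ≫ snd T Z = 𝟙 Z := lift_snd _ _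

theorem sc_snd_left (t : 𝟙_ (Over (Spec (CommRingCat.of k))) ⟶ T) :
    (sc Z t).left ≫ (snd T Z).left = 𝟙 Z.left := by
  rw [← Over.comp_left, sc_snd]
  rfl

theorem sc_le (t : 𝟙_ (Over (Spec (CommRingCat.of k))) ⟶ T) (V : Z.left.Opens) :
    V ≤ (sc Z t).left ⁻¹ᵁ (snd T Z).left ⁻¹ᵁ V := by
  have : (sc Z t).left ⁻¹ᵁ (snd T Z).left ⁻¹ᵁ V = V := by
    change ((sc Z t).left ≫ (snd T Z).left) ⁻¹ᵁ V = V
    rw [sc_snd_left]
    rfl
  exact this.ge

/-- Restriction of functions on `T × V` to `{t} × V`. -/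
noncomputable def at_ (t : 𝟙_ (Over (Spec (CommRingCat.of k))) ⟶ T) (V : Z.left.Opens) :
    Γ((T ⊗ Z).left, (snd T Z).left ⁻¹ᵁ V) →+* Γ(Z.left, V) := al (sc Z t).left (sc_le t V)

theorem at_snd (t : 𝟙_ (Over (Spec (CommRingCat.of k))) ⟶ T) (V : Z.left.Opens) (g : Γ(Z.left, V)) :
    at_ t V (al (snd T Z).left (le_refl ((snd T Z).left ⁻¹ᵁ V)) g) = g := by
  rw [at_, al_comp, al_congr (sc_snd_left t) _ (le_refl V)]
  exact al_id _ _

theorem at_fst (t : 𝟙_ (Over (Spec (CommRingCat.of k))) ⟶ T) (V : Z.left.Opens) (b : Fn T) :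
    at_ t V (al (fst T Z).left (U := ⊤) (W := (snd T Z).left ⁻¹ᵁ V) le_top (b : Γ(T.left, ⊤))) =
      str V (val t b) := by
  have h1 : (sc Z t).left ≫ (fst T Z).left = Z.hom ≫ t.left := by
    rw [← Over.comp_left, sc, lift_fst, Over.comp_left]
    rfl
  rw [at_, al_comp, al_congr h1 _ le_top]
  change _ = al Z.hom _ ((Scheme.ΓSpecIso (CommRingCat.of k)).inv ((Scheme.ΓSpecIso (CommRingCat.of k)).hom
    (t.left.appTop b)))
  have h2 : (Scheme.ΓSpecIso (CommRingCat.of k)).inv ((Scheme.ΓSpecIso (CommRingCat.of k)).hom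
    (t.left.appTop b)) = t.left.appTop b := congr($((Scheme.ΓSpecIso (CommRingCat.of k)).hom_inv_id) _)
  rw [h2]
  have h3 : t.left.appTop b = al t.left (U := ⊤) (W := ⊤) le_rfl (b : Γ(T.left, ⊤)) := app_eq_al t.left ⊤ _
  rw [h3, al_comp]

theorem exists_decomp [IsAffine T.left] {M : Type*} (κ : M → (𝟙_ (Over (Spec (CommRingCat.of k))) ⟶ T) → k)
    (hκ : ∀ b : Fn T, ∃ c : M →₀ k, ∀ t, val t b = c.sum fun m x => x * κ m t)
    {V : Z.left.Opens} (hV : IsAffineOpen V) (H : Γ((T ⊗ Z).left, (snd T Z).left ⁻¹ᵁ V)) :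
    ∃ f : M →₀ Γ(Z.left, V), ∀ t, at_ t V H = f.sum fun m g => str V (κ m t) * g := by
  classical
  have hadd : ∀ (t : 𝟙_ (Over (Spec (CommRingCat.of k))) ⟶ T) (f g : M →₀ Γ(Z.left, V)),
      ((f + g).sum fun m g => str V (κ m t) * g) = (f.sum fun m g => str V (κ m t) * g) +
        g.sum fun m g => str V (κ m t) * g := fun t f g =>
    Finsupp.sum_add_index' (fun _ => mul_zero _) (fun _ _ _ => mul_add _ _ _)
  have hP := isPushout_of_isAffineOpen (f := T.hom) (g := (snd T Z).left) (iX := Z.hom) (iY := (fst T Z).left)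
    (by
      have := IsPullback.of_hasPullback T.hom Z.hom
      exact this.flip) hV
  obtain ⟨n, g, b, rfl⟩ := Groth.Agent.Localalg.VanGen.gen_of_isPushout hP H
  choose c hc using fun i => hκ (b i)
  have key : ∀ i, ∃ f : M →₀ Γ(Z.left, V), ∀ t, at_ t V (al (snd T Z).left (le_refl ((snd T Z).left ⁻¹ᵁ V)) (g i) *
      al (fst T Z).left (U := ⊤) (W := (snd T Z).left ⁻¹ᵁ V) le_top (b i : Γ(T.left, ⊤))) =
        f.sum fun m g => str V (κ m t) * g := by
    intro i
    refine ⟨(c i).mapRange (fun x => str V x * g i) (by rw [map_zero, zero_mul]), fun t => ?_⟩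
    rw [map_mul, at_snd, at_fst, hc, Finsupp.sum_mapRange_index (fun _ => mul_zero _), Finsupp.sum, map_sum,
      Finset.mul_sum, Finsupp.sum]
    refine Finset.sum_congr rfl fun m _ => ?_
    rw [map_mul]
    ring
  choose f hf using key
  refine ⟨∑ i, f i, fun t => ?_⟩
  rw [map_sum]
  have h1 : ∀ s : Finset (Fin n), ((∑ i ∈ s, f i).sum fun m g => str V (κ m t) * g) =
      ∑ i ∈ s, (f i).sum fun m g => str V (κ m t) * g := by
    intro s
    induction s using Finset.induction_on with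
    | empty => simp
    | insert i s hi ih => rw [Finset.sum_insert hi, Finset.sum_insert hi, hadd, ih]
  rw [h1]
  exact Finset.sum_congr rfl fun i _ => hf i t

end K395.TorDec
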