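import Groth.Agent.AlgGrp.K395.LocEq

/-!
# Values of sections of a pulled back module along sections of the projection

`p : Y' ⟶ Y` with section `f`, `L` on `Y`. For a section `ω` of `p^* L`, `evAt` is the section `f^* ω` of
`f^* p^* L = L`; it is computed in coordinates by `sec_evAt`.
-/

set_option autoImplicit false
universe u
open CategoryTheory CategoryTheory.Limits AlgebraicGeometry TopologicalSpace

namespace K395.TorMod

open Groth.Agent.Fdesc.LocGen LocEq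

variable {Y Y' : Scheme.{u}}

theorem id_pullSec {M : Y.Modules} {V : Y.Opens} (m : Γ(M, V)) :
    ((Scheme.Modules.pullbackId Y).hom.app M).app V (pullSec (𝟙 Y) m) = m := by
  have h := unit_conjugateEquiv Adjunction.id
    (Scheme.Modules.pullbackPushforwardAdjunction (𝟙 Y)) (Scheme.Modules.pullbackId Y).hom M
  rw [Scheme.Modules.conjugateEquiv_pullbackId_hom] at h
  exact congr(($(h).app V) m).symm

/-- Pullback along a morphism equal to the identity. -/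
theorem exists_iso (L : Y.Modules) (g : Y ⟶ Y) (h : g = 𝟙 Y) :
    ∃ ρ : (Scheme.Modules.pullback g).obj L ≅ L, ∀ (V : Y.Opens) (hV : g ⁻¹ᵁ V ≤ V) (e : Γ(L, V)),
      ρ.hom.app (g ⁻¹ᵁ V) (pullSec g e) = res L hV e := by
  subst h
  exact ⟨(Scheme.Modules.pullbackId _).app L, fun V hV e => (id_pullSec e).trans (res_refl L e).symm⟩

variable (f : Y ⟶ Y') (p : Y' ⟶ Y) (hfp : f ≫ p = 𝟙 Y) {L : Y.Modules}

theorem le_preimage {f : Y ⟶ Y'} {p : Y' ⟶ Y} (hfp : f ≫ p = 𝟙 Y) (V : Y.Opens) : V ≤ f ⁻¹ᵁ p ⁻¹ᵁ V := by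
  have : f ⁻¹ᵁ p ⁻¹ᵁ V = V := by
    change (f ≫ p) ⁻¹ᵁ V = V
    rw [hfp]
    rfl
  exact this.ge

/-- The value along `f`. -/
theorem exists_evAt (L : Y.Modules) (ω : Coh.structureModule Y' ⟶ (Scheme.Modules.pullback p).obj L) :
    ∃ s : Coh.structureModule Y ⟶ L,
      (PicF.IsInvertible L → CohB1.genLocus L s = f ⁻¹ᵁ CohB1.genLocus _ ω) ∧
      ∀ (V : Y.Opens) (e : Γ(L, V)) (H : Γ(Y', p ⁻¹ᵁ V)), sec ω (p ⁻¹ᵁ V) = H • pullSec p e →
        sec s V = (f.appLE (p ⁻¹ᵁ V) V (le_preimage hfp V) H : Γ(Y, V)) • e := by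
  obtain ⟨ρ, hρ⟩ := exists_iso L (f ≫ p) hfp
  let α := (Scheme.Modules.pullbackComp f p).app L ≪≫ ρ
  refine ⟨pullHom f ω ≫ α.hom, fun hL => ?_, fun V e H h => ?_⟩
  · rw [genLocus_comp_iso, Groth.Agent.Ega1.AmpFam.genLocus_pullHom f (isInvertible_pullback p hL)]
  · have hV : f ⁻¹ᵁ p ⁻¹ᵁ V ≤ V := by
      change (f ≫ p) ⁻¹ᵁ V ≤ V
      rw [hfp]; exact le_rfl
    have h1 : sec (pullHom f ω ≫ α.hom) (f ⁻¹ᵁ p ⁻¹ᵁ V) =
        (f.app (p ⁻¹ᵁ V) H : Γ(Y, f ⁻¹ᵁ p ⁻¹ᵁ V)) • res L hV e := by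
      rw [sec_comp, sec_pullHom, h, pullSec_smul]
      refine (Scheme.Modules.Hom.app_smul _ _ _).trans ?_
      congr 1
      refine Eq.trans ?_ (hρ V hV e)
      exact congrArg (ρ.hom.app (f ⁻¹ᵁ p ⁻¹ᵁ V)) (pullSec_comp' f p e)
    have h2 := congrArg (res L (le_preimage hfp V)) h1
    rw [res_sec, res_smul, res_res, res_refl] at h2
    rw [h2]
    rfl

end K395.TorMod
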