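import Groth.Agent.AlgGrp.K395.TorDec
import Groth.Agent.AlgGrp.K395.TorMod
import Groth.Agent.AlgGrp.K395.CharInd
import Groth.Agent.PicF.K247.SecIso

/-!
# The isotypic components of a section of an invertible module with a torus action

`σ : T ⊗ X ⟶ X`, `φ : σ^* L ≅ p₂^* L`, `s` a section of `L`.

* `exists_sections`: the sections `S t` of `L` for `t ∈ T(k)`, the values of `φ (σ^* s)`, with the local equations;
* `exists_components`: for `T` a split torus, `S t = ∑ κ_m(t) w_m`.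
-/

set_option autoImplicit false
universe u
open CategoryTheory MonoidalCategory CartesianMonoidalCategory MonObj GrpObj AlgebraicGeometry Limits

namespace K395.TorSec

open Groth.Agent.Sga3B.AffPts Groth.Agent.Books.AlgPts Groth.Agent.Fga.LimSec Groth.Agent.Fdesc.LocGen
open TorEv TorDec TorMod LocEq

variable {k : Type u} [Field k] {T X : Over (Spec (CommRingCat.of k))}

/-- The sections `S t`. -/
theorem exists_sections (σ : T ⊗ X ⟶ X) {L : X.left.Modules} (hL : PicF.IsInvertible L)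
    (s : Coh.structureModule X.left ⟶ L)
    (φ : (Scheme.Modules.pullback σ.left).obj L ≅ (Scheme.Modules.pullback (snd T X).left).obj L) :
    ∃ S : (𝟙_ (Over (Spec (CommRingCat.of k))) ⟶ T) → (Coh.structureModule X.left ⟶ L),
      (∀ t, CohB1.genLocus L (S t) = (sc X t ≫ σ).left ⁻¹ᵁ CohB1.genLocus L s) ∧
      ∀ (V : X.left.Opens) (e : Γ(L, V)), IsGen e → ∃ H : Γ((T ⊗ X).left, (snd T X).left ⁻¹ᵁ V),
        IsLocEq σ.left s _ H ∧ ∀ t, sec (S t) V = (at_ t V H : Γ(X.left, V)) • e := by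
  have h1 := fun t : 𝟙_ (Over (Spec (CommRingCat.of k))) ⟶ T =>
    exists_evAt (sc X t).left (snd T X).left (sc_snd_left t) L (pullHom σ.left s ≫ φ.hom)
  choose S hS1 hS2 using h1
  refine ⟨S, fun t => ?_, fun V e he => ?_⟩
  · rw [hS1 t hL, genLocus_comp_iso, Groth.Agent.Ega1.AmpFam.genLocus_pullHom _ hL]
    rfl
  · obtain ⟨H, hH⟩ := (he.pullSec (snd T X).left).exists_eq
      (sec (pullHom σ.left s ≫ φ.hom) ((snd T X).left ⁻¹ᵁ V))
    refine ⟨H, ⟨φ.inv.app _ (pullSec (snd T X).left e), (he.pullSec (snd T X).left).app _, ?_⟩,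
      fun t => hS2 t V e H hH⟩
    have h2 : pullHom σ.left s = (pullHom σ.left s ≫ φ.hom) ≫ φ.inv := by
      rw [Category.assoc, Iso.hom_inv_id, Category.comp_id]
    rw [h2, sec_comp, hH]
    exact Scheme.Modules.Hom.app_smul _ _ _

theorem res_injective [IsIntegral X.left] {L : X.left.Modules} (hL : PicF.IsInvertible L) {U V : X.left.Opens}
    (h : V ≤ U) (hV : (V : Set X.left).Nonempty) : Function.Injective (res L h) := by
  intro a b hab
  rw [← sub_eq_zero]
  refine K247.SecIso.eq_zero_of_res hL h hV _ ?_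
  rw [map_sub, hab, sub_self]

/-- The isotypic components. -/
theorem exists_components [IsAffine T.left] [GrpObj T] [IsIntegral X.left] {L : X.left.Modules}
    (hL : PicF.IsInvertible L)
    (S : (𝟙_ (Over (Spec (CommRingCat.of k))) ⟶ T) → (Coh.structureModule X.left ⟶ L))
    (hS : ∀ (V : X.left.Opens) (e : Γ(L, V)), IsGen e → ∃ H : Γ((T ⊗ X).left, (snd T X).left ⁻¹ᵁ V),
        ∀ t, sec (S t) V = (at_ t V H : Γ(X.left, V)) • e)
    {M : Type*} (κ : M → (𝟙_ (Over (Spec (CommRingCat.of k))) ⟶ T) →* k) (hκ : Function.Injective κ)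
    (hκ' : ∀ b : Fn T, ∃ c : M →₀ k, ∀ t, val t b = c.sum fun m x => x * κ m t) :
    ∃ (E : Finset M) (w : M → Γ(L, ⊤)), (∀ t, sec (S t) ⊤ =
        ∑ m ∈ E, (str ⊤ (κ m t) : Γ(X.left, ⊤)) • w m) ∧
      ∀ m ∈ E, ∃ c : (𝟙_ (Over (Spec (CommRingCat.of k))) ⟶ T) →₀ k,
        w m = c.sum fun t x => (str ⊤ x : Γ(X.left, ⊤)) • (sec (S t) ⊤ : Γ(L, ⊤)) := by
  classical
  obtain ⟨V', e', hx, he'⟩ := (isInvertible_iff L).1 hL (genericPoint X.left)
  obtain ⟨V, hV, hxV, hVV'⟩ := exists_isAffineOpen_mem_and_subset (x := genericPoint X.left) (U := V') hx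
  have he := he'.res hVV'
  set e := res L hVV' e'
  obtain ⟨H, hH⟩ := hS V e he
  obtain ⟨f, hf⟩ := exists_decomp (fun m t => κ m t) hκ' hV H
  choose c hc using fun m : f.support => CharInd.exists_coeff κ hκ f.support m.1 m.2
  let w : M → Γ(L, ⊤) := fun m => if hm : m ∈ f.support then
    (c ⟨m, hm⟩).sum fun t x => (str ⊤ x : Γ(X.left, ⊤)) • (sec (S t) ⊤ : Γ(L, ⊤)) else 0
  have hw : ∀ m (hm : m ∈ f.support), w m =
      (c ⟨m, hm⟩).sum fun t x => (str ⊤ x : Γ(X.left, ⊤)) • (sec (S t) ⊤ : Γ(L, ⊤)) := fun m hm => dif_pos hm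
  have hres : ∀ m ∈ f.support, res L (le_top : V ≤ ⊤) (w m) = f m • e := by
    intro m hm
    rw [hw m hm, Finsupp.sum, map_sum]
    have h1 : ∀ t, res L (le_top : V ≤ ⊤) ((str ⊤ ((c ⟨m, hm⟩) t) : Γ(X.left, ⊤)) • (sec (S t) ⊤ : Γ(L, ⊤))) =
        ∑ m' ∈ f.support, (str V ((c ⟨m, hm⟩) t * κ m' t) * f m') • e := by
      intro t
      rw [res_smul, res_sec, hH, ores_str, hf, smul_smul, Finsupp.sum, Finset.mul_sum, Finset.sum_smul]
      refine Finset.sum_congr rfl fun m' _ => ?_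
      rw [map_mul, _root_.mul_assoc]
    rw [Finset.sum_congr rfl fun t _ => h1 t, Finset.sum_comm]
    have h2 : ∀ m' ∈ f.support, ∑ t ∈ (c ⟨m, hm⟩).support, (str V ((c ⟨m, hm⟩) t * κ m' t) * f m') • e =
        (str V (if m' = m then 1 else 0) * f m') • e := by
      intro m' hm'
      rw [← Finset.sum_smul, ← Finset.sum_mul, ← map_sum, ← hc ⟨m, hm⟩ m' hm', Finsupp.sum]
    rw [Finset.sum_congr rfl h2, Finset.sum_eq_single m]
    · rw [if_pos rfl, map_one, _root_.one_mul]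
    · intro m' _ hne
      rw [if_neg hne, map_zero, zero_mul, zero_smul]
    · exact fun h => absurd hm h
  refine ⟨f.support, w, fun t => ?_, fun m hm => ⟨c ⟨m, hm⟩, hw m hm⟩⟩
  refine res_injective hL (le_top : V ≤ ⊤) ⟨_, hxV⟩ ?_
  rw [res_sec, hH, hf, map_sum, Finsupp.sum, Finset.sum_smul]
  refine Finset.sum_congr rfl fun m hm => ?_
  rw [res_smul, hres m hm, ores_str, smul_smul]

end K395.TorSec
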